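import Cfsg.Prelude.Def_MonsterType
import Cfsg.Agent.S1265
import Cfsg.Agent.Lib.JankoFourBridge.Bridge

/-!
# The Janko-four type from the extension by the automorphism group of M22 (owner: helper25)
-/

set_option autoImplicit false

namespace CfsgLib.JankoFourPresent

open Cfsg
open scoped commutatorElement

/-- An extraspecial centralizer setting with `3 · Aut(M22)`, the part of order three without complement,
is of Janko-four type. -/
theorem type_of_aut_setting {G : Type*} [Group G] [Finite G] (τ : G)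
    (Q N : Subgroup ↥(Subgroup.centralizer ({τ} : Set G))) [Q.Normal] [N.Normal]
    (hS : IsExtraspecialCentralizerSetting τ Q 6) (hQN : Q ≤ N) (hN3 : Nat.card ↥N = 3 * Nat.card ↥Q)
    (hns : ∀ K : Subgroup ↥(Subgroup.centralizer ({τ} : Set G)), K ⊓ N = Q → K ⊔ N = ⊤ → False)
    (hAut : Nonempty (↥(Subgroup.centralizer ({τ} : Set G)) ⧸ N ≃* MulAut ↥Spor.M22)) :
    IsOfJankoFourTypeAt τ ∧ ¬ IsMulCommutative G := by
  classical
  obtain ⟨hτ, hF, hQ, hcard, -⟩ := hS
  obtain ⟨e⟩ := hAut
  haveI := CfsgLib.Sporadic.sporM22_isSimple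
  haveI : Fact (Nat.Prime 2) := ⟨Nat.prime_two⟩
  set C := ↥(Subgroup.centralizer ({τ} : Set G))
  let cj : ↥Spor.M22 →* MulAut ↥Spor.M22 := MulAut.conj
  let ω : C →* MulAut ↥Spor.M22 := e.toMonoidHom.comp (QuotientGroup.mk' N)
  have hωs : Function.Surjective ω := e.surjective.comp (QuotientGroup.mk'_surjective N)
  have hωk : ω.ker = N := by
    ext c
    rw [MonoidHom.mem_ker, show ω c = e (QuotientGroup.mk' N c) from rfl, MulEquiv.map_eq_one_iff,
      ← MonoidHom.mem_ker, QuotientGroup.ker_mk']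
  haveI : cj.range.Normal := ⟨fun x ⟨g, hg⟩ ψ => ⟨ψ g, by
    rw [← hg]; exact (CfsgLib.JankoFour.conj_range_normal ψ g).symm⟩⟩
  set M := cj.range.comap ω with hMdef
  haveI : M.Normal := Subgroup.Normal.comap inferInstance ω
  have hNM : N ≤ M := hωk ▸ MonoidHom.ker_le_comap ω _
  have hM : M.index = 2 := by
    rw [hMdef, Subgroup.index_comap_of_surjective _ hωs]
    exact CfsgLib.JankoFour.index_conj_range
  have hwM : ∀ m ∈ M, ω m ∈ cj.range := fun m hm => hm
  -- the Mathieu group
  let θ : ↥M →* ↥cj.range := (ω.comp M.subtype).codRestrict cj.range fun m => hwM _ m.2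
  have hθs : Function.Surjective θ := fun ⟨a, ha⟩ => by
    obtain ⟨c, rfl⟩ := hωs a
    exact ⟨⟨c, ha⟩, rfl⟩
  have hθk : N.subgroupOf M = θ.ker := by
    ext m
    rw [MonoidHom.mem_ker, Subgroup.mem_subgroupOf, ← hωk, MonoidHom.mem_ker, Subtype.ext_iff]
    rfl
  let eM : ↥M ⧸ N.subgroupOf M ≃* ↥Spor.M22 :=
    ((QuotientGroup.quotientMulEquivOfEq hθk).trans (QuotientGroup.quotientKerEquivOfSurjective θ hθs)).trans
      (MonoidHom.ofInjective (f := cj) CfsgLib.JankoFour.conj_injective).symm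
  -- centralizing the quotient
  have hout : ∀ c : C, (∀ m ∈ M, c * m * c⁻¹ * m⁻¹ ∈ N) → c ∈ M := by
    intro c hc
    refine hNM (hωk ▸ MonoidHom.mem_ker.2 ?_)
    refine MulEquiv.ext fun x => ?_
    obtain ⟨m, hm⟩ := hωs (cj x)
    have h1 : ω c * cj x * (ω c)⁻¹ = cj x := by
      have h2 : ω (c * m * c⁻¹ * m⁻¹) = 1 := MonoidHom.mem_ker.1 (hωk ▸ hc m ⟨x, hm.symm⟩)
      rw [map_mul, map_mul, map_mul, map_inv, map_inv, hm, mul_inv_eq_one] at h2
      exact h2
    rw [CfsgLib.JankoFour.conj_range_normal] at h1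
    exact CfsgLib.JankoFour.conj_injective h1
  -- the derived group
  set D : Subgroup C := ⁅M, M⁆ with hD
  haveI : D.Normal := Subgroup.commutator_normal M M
  have hMN : M ≤ D ⊔ N := by
    intro m hm
    have htop : commutator ↥Spor.M22 = ⊤ := by
      rcases (inferInstance : (commutator ↥Spor.M22).Normal).eq_bot_or_eq_top with h | h
      · exfalso
        have hcomm : ∀ a b : ↥Spor.M22, a * b = b * a := fun a b => commutatorElement_eq_one_iff_mul_comm.1
          (Subgroup.mem_bot.1 (h ▸ Subgroup.commutator_mem_commutator (Subgroup.mem_top a) (Subgroup.mem_top b)))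
        have : (cj : ↥Spor.M22 → MulAut ↥Spor.M22) = fun _ => 1 := funext fun a => MulEquiv.ext fun b => by
          show a * b * a⁻¹ = b
          rw [hcomm a b, mul_inv_cancel_right]
        haveI hnt : Nontrivial ↥Spor.M22 := IsSimpleGroup.toNontrivial
        obtain ⟨a, ha⟩ := exists_ne (1 : ↥Spor.M22)
        exact ha (CfsgLib.JankoFour.conj_injective (show cj a = cj 1 by rw [congrFun this a, map_one]))
      · exact h
    have himg : D.map ω = cj.range := by
      rw [hD, Subgroup.map_commutator, hMdef, Subgroup.map_comap_eq_self_of_surjective hωs,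
        MonoidHom.range_eq_map cj, ← Subgroup.map_commutator, ← commutator_def, htop]
    obtain ⟨d, hd, hde⟩ := himg ▸ hwM m hm
    rw [← mul_inv_cancel_left d m]
    exact Subgroup.mul_mem_sup hd (hωk ▸ MonoidHom.mem_ker.2 (by rw [map_mul, map_inv, hde, inv_mul_cancel]))
  -- the action on the group of order three
  have hcent : ⁅M, N⁆ ≤ Q := by
    haveI : (Q.subgroupOf N).Normal := Subgroup.normal_subgroupOf
    let π := QuotientGroup.mk' Q
    haveI : (N.map π).Normal := Subgroup.Normal.map inferInstance π (QuotientGroup.mk'_surjective Q)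
    have hN' : Nat.card (N.map π) = 3 := by
      have h1 := Subgroup.card_mul_index (Q.subgroupOf N)
      rw [Nat.card_congr (Subgroup.subgroupOfEquivOfLe hQN).toEquiv, hN3, mul_comm 3] at h1
      have h2 : (Q.subgroupOf N).index = 3 := Nat.eq_of_mul_eq_mul_left Nat.card_pos h1
      let f : ↥N →* C ⧸ Q := π.comp N.subtype
      have hk : Q.subgroupOf N = f.ker := by rw [← MonoidHom.comap_ker, QuotientGroup.ker_mk']; rfl
      rw [show N.map π = f.range by rw [MonoidHom.range_comp, Subgroup.range_subtype],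
        ← Subgroup.index_ker, ← hk, h2]
    haveI : IsCyclic ↥(N.map π) := isCyclic_of_prime_card (p := 3) (hp := ⟨Nat.prime_three⟩) hN'
    let act : C →* MulAut ↥(N.map π) := MulAut.conjNormal.comp π
    have hactD : D ≤ act.ker := by
      rw [hD, Subgroup.commutator_le]
      intro a _ b _
      rw [MonoidHom.mem_ker, map_commutatorElement, commutatorElement_eq_one_iff_mul_comm]
      refine MulEquiv.ext fun x => ?_
      obtain ⟨i, hi⟩ := IsCyclic.exists_generator (α := ↥(N.map π))
      obtain ⟨p, hp⟩ := hi (act a i)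
      obtain ⟨q, hq⟩ := hi (act b i)
      obtain ⟨j, rfl⟩ := hi x
      show act a (act b (i ^ j)) = act b (act a (i ^ j))
      simp only [map_zpow, ← hp, ← hq, ← zpow_mul]
      congr 1; ring
    have hactN : N ≤ act.ker := fun n hn => MonoidHom.mem_ker.2 (MulEquiv.ext fun x => Subtype.ext (by
      show ((MulAut.conjNormal (π n) x : ↥(N.map π)) : C ⧸ Q) = x
      rw [MulAut.conjNormal_apply]
      have := congrArg Subtype.val ((IsCyclic.isMulCommutative (α := ↥(N.map π))).is_comm.comm (⟨π n, Subgroup.mem_map_of_mem π hn⟩ : ↥(N.map π)) x)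
      rw [show π n * (x : C ⧸ Q) = x * π n from this, mul_inv_cancel_right]))
    rw [Subgroup.commutator_le]
    intro m hm n hn
    have h1 := congrArg (fun φ : MulAut ↥(N.map π) => (φ ⟨π n, Subgroup.mem_map_of_mem π hn⟩ : C ⧸ Q))
      (MonoidHom.mem_ker.1 ((sup_le hactD hactN) (hMN hm)))
    have h2 : π m * π n * (π m)⁻¹ = π n := by
      simpa [act, MulAut.conjNormal_apply] using h1
    rw [← QuotientGroup.ker_mk' Q, MonoidHom.mem_ker, map_commutatorElement, commutatorElement_def, h2,
      mul_inv_cancel]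
  -- perfectness
  have hperf : M ≤ D ⊔ Q := by
    by_contra hne
    set K1 := D ⊔ Q with hK1
    have hK1M : K1 ≤ M := sup_le (Subgroup.commutator_le_left M M) (hQN.trans hNM)
    have hK1N : K1 ⊓ N = Q := by
      refine le_antisymm ?_ (le_inf le_sup_right hQN)
      intro x hx
      by_contra hxQ
      refine hne (hMN.trans (sup_le le_sup_left ?_))
      have h3 : Nat.card ↥Q ∣ Nat.card ↥(K1 ⊓ N : Subgroup C) := Subgroup.card_dvd_of_le (le_inf le_sup_right hQN)
      have h4 : Nat.card ↥(K1 ⊓ N : Subgroup C) ∣ 3 * Nat.card ↥Q := hN3 ▸ Subgroup.card_dvd_of_le inf_le_right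
      obtain ⟨k, hk⟩ := h3
      rw [hk, mul_comm 3] at h4
      rcases (Nat.dvd_prime Nat.prime_three).1 (Nat.dvd_of_mul_dvd_mul_left Nat.card_pos h4) with rfl | rfl
      · exact absurd (Subgroup.eq_of_le_of_card_ge (le_inf le_sup_right hQN) (by rw [hk, mul_one]) ▸ hx) hxQ
      · exact (Subgroup.eq_of_le_of_card_ge (inf_le_right : K1 ⊓ N ≤ N) (by rw [hk, hN3, mul_comm])).ge.trans
          inf_le_left
    haveI : K1.Normal := Subgroup.sup_normal D Q
    obtain ⟨c, hcM⟩ : ∃ c : C, c ∉ M := by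
      by_contra h
      push_neg at h
      rw [Subgroup.index_eq_one.2 (eq_top_iff.2 fun x _ => h x)] at hM
      norm_num at hM
    -- a 2-element outside `M`
    obtain ⟨a, m, hodd, ha⟩ : ∃ a m : ℕ, Odd m ∧ orderOf c = 2 ^ a * m := by
      obtain ⟨a, m, hm, e⟩ := Nat.exists_eq_two_pow_mul_odd (orderOf_pos c).ne'
      exact ⟨a, m, hm, e⟩
    have hcm : c ^ m ∉ M := fun h => hcM (by
      obtain ⟨k, rfl⟩ := hodd
      rw [pow_succ, pow_mul, pow_two] at h
      exact (M.mul_mem_cancel_left (pow_mem (Subgroup.mul_self_mem_of_index_two hM c) k)).1 h)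
    set K := K1 ⊔ Subgroup.zpowers (c ^ m) with hKdef
    refine hns K ?_ ?_
    · refine le_antisymm ?_ (le_inf (le_sup_right.trans le_sup_left) hQN)
      rintro x ⟨hxK, hxN⟩
      rw [← hK1N]
      refine ⟨?_, hxN⟩
      obtain ⟨k, hk, w, ⟨i, rfl⟩, rfl⟩ : ∃ k ∈ K1, ∃ w ∈ Subgroup.zpowers (c ^ m), k * w = x := by
        have h := Subgroup.normal_mul K1 (Subgroup.zpowers (c ^ m))
        rw [Set.ext_iff] at h
        exact (h x).1 hxK
      refine mul_mem hk ?_
      have hw : (c ^ m) ^ i ∈ M := (M.mul_mem_cancel_left (hK1M hk)).1 (hNM hxN)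
      -- its cube lies in `K1`, its order is a power of two
      have hDN : ∀ y ∈ M, y ^ 3 ∈ K1 := fun y hy => by
        obtain ⟨d, hd, n, hn, rfl⟩ : ∃ d ∈ K1, ∃ n ∈ N, d * n = y := by
          have h := Subgroup.normal_mul K1 N
          rw [Set.ext_iff] at h
          exact (h y).1 ((hMN.trans (sup_le_sup_right le_sup_left N)) hy)
        rw [← QuotientGroup.ker_mk' K1, MonoidHom.mem_ker, map_pow, map_mul,
          show QuotientGroup.mk' K1 d = 1 from (QuotientGroup.eq_one_iff d).2 hd, one_mul, ← map_pow,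
          QuotientGroup.mk'_apply, QuotientGroup.eq_one_iff]
        refine (le_sup_right : Q ≤ K1) ?_
        have hnQ : n ^ (Q.subgroupOf N).index ∈ Q := by
          haveI : (Q.subgroupOf N).Normal := Subgroup.normal_subgroupOf
          exact Subgroup.mem_subgroupOf.1 (Subgroup.pow_index_mem (Q.subgroupOf N) ⟨n, hn⟩)
        have h1 := Subgroup.card_mul_index (Q.subgroupOf N)
        rw [Nat.card_congr (Subgroup.subgroupOfEquivOfLe hQN).toEquiv, hN3, mul_comm 3] at h1
        rwa [Nat.eq_of_mul_eq_mul_left Nat.card_pos h1] at hnQ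
      have h2a : ((c ^ m) ^ i) ^ (2 ^ a) = 1 := by
        rw [← zpow_natCast ((c ^ m) ^ i), ← zpow_mul, mul_comm, zpow_mul, zpow_natCast, ← pow_mul, mul_comm,
          ← ha, pow_orderOf_eq_one, one_zpow]
      set y := (c ^ m) ^ i with hy
      obtain ⟨u, v, huv⟩ : ∃ u v : ℤ, u * 3 + v * (2 ^ a : ℕ) = 1 :=
        Int.isCoprime_iff_gcd_eq_one.2 (by
          show Nat.gcd 3 (2 ^ a) = 1
          exact Nat.Coprime.pow_right a (by norm_num))
      have : y = (y ^ 3) ^ u := by
        have e1 : y ^ (v * ((2 ^ a : ℕ) : ℤ)) = 1 := by rw [mul_comm, zpow_mul, zpow_natCast, h2a, one_zpow]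
        have e3 : y ^ (u * 3) = (y ^ 3) ^ u := by rw [mul_comm, zpow_mul]; norm_cast
        calc y = y ^ (u * 3 + v * ((2 ^ a : ℕ) : ℤ)) := by rw [huv, zpow_one]
          _ = _ := by rw [zpow_add, e1, mul_one, e3]
      show y ∈ K1
      rw [this]
      exact Subgroup.zpow_mem _ (hDN y hw) u
    · have hMK : M ≤ K ⊔ N := hMN.trans (sup_le_sup_right (le_sup_left.trans le_sup_left) N)
      refine eq_top_iff.2 fun x _ => ?_
      by_cases hx : x ∈ M
      · exact hMK hx
      · have h1 : x * c ^ m ∈ M := (Subgroup.mul_mem_iff_of_index_two hM).2 (iff_of_false hx hcm)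
        have h2 : c ^ m ∈ K ⊔ N :=
          (le_sup_left : K ≤ _) ((le_sup_right : Subgroup.zpowers (c ^ m) ≤ K) (Subgroup.mem_zpowers _))
        exact (Subgroup.mul_mem_cancel_right _ h2).1 (hMK h1)
  have h2c : Subgroup.centralizer (Q : Set C) ≤ Q := by
    rw [← hF]
    exact Cfsg.Agent.S1265.result
  exact CfsgLib.JankoFourBridge.janko_type_of_centralizer τ hτ Q N M hQN hNM hM hQ (by rw [hcard]) hN3 hcent
    hperf h2c hout ⟨eM⟩

end CfsgLib.JankoFourPresent
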