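import Cfsg.Agent.Lib.JankoFourPresent.Codes

/-!
# The finite checks for the generators of the presented fourth Janko group (owner: helper25)
-/

set_option autoImplicit false
set_option maxRecDepth 100000

namespace CfsgLib.JankoFourPresent

open CfsgLib.Sporadic CfsgLib.JankoFourOrder CfsgLib.JankoFourOrder.Central
open CfsgLib.JankoFourTrio (gP)
open CfsgLib.ThreeTrans.M24Inv (peq)

theorem t_pin : (conjOK tPin && pinOK tPin.2.2) = true := by decide +kernel

theorem t_times : tTimes.all (fun e => nvOK e.2.1 && conjOK e.2.2 && notZOK e.2.2.2.2 &&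
    Nat.beq e.2.1.1 e.1 && peq e.2.1.2.1 pone &&
    ieq (imul (nvImg e.2.1) tImg) (conjImg e.2.2)) = true := by decide +kernel

theorem times_cover : forallLt 2048 (fun u => !inU u || Nat.beq u 1 || tTimes.any (fun e => Nat.beq e.1 u)) = true := by
  decide +kernel

theorem lz_ok : forallLt 9 (fun i => match lzData.getD i (0, 0, 0, 0, 0, 0) with
    | (c, h, d) => nvOK (c, h, d) && Nat.beq c 0 && peq h (gList.getD i pone) && Nat.beq (pImg h 1) 1 &&
      ieq (imul (nvImg (c, h, d)) tImg) (imul tImg (nvImg (c, h, d)))) = true := by decide +kernel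

theorem trio_ok : (Nat.beq (pImg (gP 2) 1) 10 && Nat.beq (pImg (gP 2) 10) 20 && Nat.beq (pImg (gP 2) 20) 11 &&
    forallLt 2 (fun i => peq (pmul (gP 2) (gP i)) (pmul (gP i) (gP 2)))) = true := by decide +kernel

theorem perms_ok : (isAut xP && isAut yP && isAut yiP && isAut sP && isAut aP && isAut wOne && isAut wTwo &&
    forallLt 10 (fun i => isAut (gList.getD i pone)) && isAut wOneInv && isAut wTwoInv &&
    peq (pmul wOne wOneInv) pone && peq (pmul wTwo wTwoInv) pone && peq (pmul yP yiP) pone &&
    peq (pmul xP xP) pone && peq sP (lPerm sWord) && sWord.all (fun i => Nat.blt i 10)) = true := by decide +kernel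

theorem rels_ok : (peq (pmul xP xP) pone && peq (pList (rep 3 [yP])) pone && peq (pList (rep 23 [xP, yP])) pone &&
    peq (pList (rep 12 [xP, yiP, xP, yP])) pone &&
    peq (pList (rep 5 [xP, yiP, xP, yiP, xP, yP, xP, yP])) pone &&
    peq (pList (rep 4 ([xP, yP] ++ rep 3 [xP, yP, xP, yiP]))) pone &&
    peq (pList (rep 3 [xP, yP, xP, yP, xP, yiP] ++ rep 3 [xP, yP, xP, yiP, xP, yiP])) pone) = true := by
  decide +kernel

theorem one_chart : (chartOK rOne zOne && inU (pImg wOne zOne) && Nat.beq (pImg yP zOne) zOne) = true := by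
  decide +kernel

theorem one_data0 : wordOK rOne.1 rOne.2 (oneRaw 0) oneData0 = true := by decide +kernel
theorem one_data1 : wordOK rOne.1 rOne.2 (oneRaw 1) oneData1 = true := by decide +kernel
theorem one_data2 : wordOK rOne.1 rOne.2 (oneRaw 2) oneData2 = true := by decide +kernel

/-- The image of one of the three conjugates, moved into the coordinates. -/
noncomputable def oneImg (D : List Dat) : ℕ × ℕ :=
  imul (imul (0, CfsgLib.JankoFourClasses.Two.evalW oneWord.1) (wordImg D)) (0, oneWord.2)

/-- One of the three elements of the coordinates. -/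
noncomputable def oneElt (i : ℕ) : NVData := oneElts.getD i (0, 0, 0, 0, 0, 0)

theorem one_word : (oneWord.1.all (fun g => Nat.blt g 5) && Nat.blt oneWord.2 (2 ^ 144) &&
    Nat.beq (mMul (CfsgLib.JankoFourClasses.Two.evalW oneWord.1) oneWord.2) mId &&
    forallLt 3 (fun i => nvOK (oneElt i) && pinOK (oneElt i)) &&
    ieq (oneImg oneData0) (nvImg (oneElt 0)) && ieq (oneImg oneData1) (nvImg (oneElt 1)) &&
    ieq (oneImg oneData2) (nvImg (oneElt 2)) &&
    match oneElt 0, oneElt 1, oneElt 2 with
    | (a, p, _), (b, q, _), (c, r, _) => Nat.beq (aMulP (b, q) (c, r)).1 a && peq (pmul q r) p) = true := by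
  decide +kernel

theorem two_charts : (chartOK rA zA && chartOK rC zC && chartOK rE zE && pairOK sM && pairOK sT && pairOK sU &&
    Nat.blt vM 2048 && Nat.blt nT 2048 && Nat.blt nU 2048 && isAut aPerm && Nat.blt aCode 2048 &&
    zVec xT && zVec xU && !Nat.beq zA zC && inU zA && inU (pImg sM.2 zA) && inU (pImg sM.2 zC) &&
    inU (pImg wTwo zC)) = true := by decide +kernel

theorem two_aA : (wordOK rA.1 rA.2 aRaw twoaA && wordOK rA.1 rA.2 naRaw twoaA2 &&
    ieq (wordImg twoaA) (wordImg twoaA2)) = true := by decide +kernel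

theorem two_aC : (wordOK rC.1 rC.2 aRaw twoaC && wordOK rC.1 rC.2 naRaw twoaC2 &&
    ieq (wordImg twoaC) (wordImg twoaC2)) = true := by decide +kernel

theorem two_tA : (wordOK rA.1 rA.2 tRaw twotA && wordOK rA.1 rA.2 ntRaw twotA2 &&
    ieq (wordImg twotA) (wordImg twotA2)) = true := by decide +kernel

theorem two_uC : (wordOK rC.1 rC.2 uRaw twouC && wordOK rC.1 rC.2 nuRaw twouC2 &&
    ieq (wordImg twouC) (wordImg twouC2)) = true := by decide +kernel

theorem two_R : (wordOK rE.1 rE.2 finRaw twoR && conjOK finConj && ieq (wordImg twoR) (conjImg finConj) &&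
    match finConj.2.2 with
    | (c, h, _) => Nat.beq (Nat.xor c (pImg h c)) 0 && peq (pmul h h) pone) = true := by decide +kernel

end CfsgLib.JankoFourPresent
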