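import Cfsg.Agent.Lib.JankoFourPresent.Data
import Cfsg.Agent.Lib.JankoFourClasses.Two.Codes
import Cfsg.Agent.Lib.JankoFourTrio.Checks

/-!
# The checks for the generators of the presented fourth Janko group (owner: helper25)
-/

set_option autoImplicit false
set_option maxRecDepth 100000

namespace CfsgLib.JankoFourPresent

open CfsgLib.Sporadic CfsgLib.JankoFourOrder CfsgLib.JankoFourOrder.Central
open CfsgLib.JankoFourTrio (gP)
open CfsgLib.JankoFourClasses.Two (evalW)
open CfsgLib.ThreeTrans.M24Inv (peq)

/-- The product of images. -/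
noncomputable def imul (a b : ℕ × ℕ) : ℕ × ℕ := (Nat.xor a.1 (mMul a.2 b.1), mMul a.2 b.2)

/-- Equality of images. -/
noncomputable def ieq (a b : ℕ × ℕ) : Bool := Nat.beq a.1 b.1 && Nat.beq a.2 b.2

/-- The image of a datum. -/
def nvImg : NVData → ℕ × ℕ
  | (_, _, y, _, _, m) => (y, m)

/-- A datum is correct. -/
noncomputable def nvOK : NVData → Bool
  | (c, h, y, v, p, m) => Nat.blt c 2048 && isAut h && Nat.blt y 4096 && isAut p && jCheck v p m &&
      peq (elPerm y p) h && Nat.blt (Nat.xor (elCode y v) c) 2

/-- The product in the coordinates. -/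
noncomputable def aMulP (a b : ℕ × ℕ) : ℕ × ℕ := (Nat.xor a.1 (pImg a.2 b.1), pmul a.2 b.2)

/-- The element is an involution of the class of `z` and its translate by `z` is not. -/
noncomputable def pinOK : NVData → Bool
  | (c, h, _) => Nat.beq (Nat.xor c (pImg h c)) 0 && peq (pmul h h) pone && Nat.blt 1 c &&
      fastZ c h && !fastZ (Nat.xor c 1) h

/-- Neither lift is of the class of `z`. -/
noncomputable def notZOK : NVData → Bool
  | (c, h, _) => Nat.beq (Nat.xor c (pImg h c)) 0 && peq (pmul h h) pone && Nat.blt 1 c &&
      !fastZ c h && !fastZ (Nat.xor c 1) h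

/-- The image of a conjugate of a datum. -/
noncomputable def conjImg : ConjData → ℕ × ℕ
  | (w, mi, d) => imul (imul (0, evalW w) (nvImg d)) (0, mi)

/-- The data of a conjugate is correct. -/
noncomputable def conjOK : ConjData → Bool
  | (w, mi, d) => w.all (fun g => Nat.blt g 5) && Nat.blt mi (2 ^ 144) && Nat.beq (mMul (evalW w) mi) mId && nvOK d

/-- The image of `t`. -/
noncomputable def tImg : ℕ × ℕ := conjImg tPin

/-- The generators of the trio stabilizer. -/
def gList : List ℕ := [gP 0, gP 1, gP 4, gP 5, gP 6, gP 7, gP 8, gP 9, xP, gP 2]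

/-- The permutation of a word. -/
noncomputable def lPerm (w : List ℕ) : ℕ := w.foldr (fun i p => pmul (gList.getD i pone) p) pone

/-- A letter before the change of chart. -/
inductive Raw where
  | v (c h : ℕ)
  | T (σ : ℕ)

/-- A datum fits the letter in the chart of `r`. -/
noncomputable def letOK (r ri : ℕ) : Raw → Dat → Bool
  | .v c h, .nv (c', h', d) => nvOK (c', h', d) && isAut h && Nat.blt c 2048 && Nat.beq (pImg r c) c' &&
      peq h' (pmul (pmul r h) ri)
  | .T σ, .tw l w (ca, ha, da) (cb, hb, db) => nvOK (ca, ha, da) && nvOK (cb, hb, db) && isAut σ && isAut l &&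
      Nat.beq ca 0 && Nat.beq cb 0 && w.all (fun i => Nat.blt i 10) && peq l (lPerm w) &&
      peq (pmul r σ) (pmul ha l) && peq (pmul ha hb) pone
  | _, _ => false

/-- The image of a datum letter. -/
noncomputable def datImg : Dat → ℕ × ℕ
  | .nv d => nvImg d
  | .tw _ _ a b => imul (imul (nvImg a) tImg) (nvImg b)

/-- The image of a word. -/
noncomputable def wordImg : List Dat → ℕ × ℕ
  | [] => (0, mId)
  | d :: D => imul (datImg d) (wordImg D)

/-- The data fit the word. -/
noncomputable def wordOK (r ri : ℕ) : List Raw → List Dat → Bool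
  | [], [] => true
  | a :: A, d :: D => letOK r ri a d && wordOK r ri A D
  | _, _ => false

/-- A change of chart moving `c` to `z`. -/
noncomputable def chartOK (r : ℕ × ℕ) (c : ℕ) : Bool :=
  isAut r.1 && isAut r.2 && Nat.blt c 2048 && Nat.beq (pImg r.1 c) 1 && peq (pmul r.1 r.2) pone

/-- A permutation with its inverse. -/
noncomputable def pairOK (r : ℕ × ℕ) : Bool := isAut r.1 && isAut r.2 && peq (pmul r.1 r.2) pone

/-- The code of a member of the trio is fixed. -/
noncomputable def inU (c : ℕ) : Bool :=
  Nat.beq c 1 || Nat.beq c 10 || Nat.beq c 11 || Nat.beq c 20 || Nat.beq c 21 || Nat.beq c 30 || Nat.beq c 31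

/-! ### the words of the relators in the permutations -/

/-- Product of a list. -/
noncomputable def pList (l : List ℕ) : ℕ := l.foldr pmul pone

/-- Repetition of a list. -/
def rep (n : ℕ) (l : List ℕ) : List ℕ := (List.replicate n l).flatten

/-- The inverse of `y`. -/
noncomputable def yiP : ℕ := pmul yP yP

/-- The second generator of the trio stabilizer. -/
def sL (y y' x : ℕ) : List ℕ := [y, x, y] ++ rep 2 [x, y'] ++ rep 3 [x, y]

/-- The permutation `s`. -/
noncomputable def sP : ℕ := pList (sL yP yiP xP)

/-- The conjugating permutation of the first long relator, and its inverse. -/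
noncomputable def wOne : ℕ := pList [yP, xP, yiP, xP, yP, xP, yiP, xP]
noncomputable def wOneInv : ℕ := pList [xP, yP, xP, yiP, xP, yP, xP, yiP]

/-- The element `a`. -/
noncomputable def aP : ℕ := pList (rep 3 [yP, xP, yP, xP, yP, xP, yP])

/-- The conjugating permutation of the second long relator, and its inverse. -/
noncomputable def wTwo : ℕ := pList (rep 3 [xP, yP] ++ [yP] ++ rep 6 [xP, yP] ++ [yP])
noncomputable def wTwoInv : ℕ := pList ([yiP] ++ rep 6 [yiP, xP] ++ [yiP] ++ rep 3 [yiP, xP])

/-- The three conjugates of the first long relator. -/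
noncomputable def oneRaw (i : ℕ) : List Raw := [.T (pList (List.replicate i yP ++ [wOneInv]))]

/-- The words of the second long relator. -/
noncomputable def mRaw : List Raw := [.T sM.1, .v vM pone]
noncomputable def mInvRaw : List Raw := [.v vM pone, .T sM.1]
noncomputable def aRaw : List Raw := mRaw ++ [.v 0 aP] ++ mInvRaw
noncomputable def tRaw : List Raw := mRaw ++ [.T pone] ++ mInvRaw
noncomputable def uRaw : List Raw := mRaw ++ [.T wTwoInv] ++ mInvRaw
noncomputable def naRaw : List Raw := [.v aCode aPerm]
noncomputable def ntRaw : List Raw := [.v nT pone, .T sT.1, .v xT pone, .T sT.1, .v nT pone]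
noncomputable def nuRaw : List Raw := [.v nU pone, .T sU.1, .v xU pone, .T sU.1, .v nU pone]
noncomputable def finRaw : List Raw := naRaw ++ ntRaw ++ nuRaw

/-- A vector of the class of `z` whose translate is not the identity. -/
noncomputable def zVec (c : ℕ) : Bool := Nat.blt c 2048 && Nat.blt 1 c && fastZ c pone

end CfsgLib.JankoFourPresent
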