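import Cfsg.Agent.Lib.JankoFourPresent.Codes
import Cfsg.Agent.Lib.JankoFourClasses.Two.Witness
import Cfsg.Agent.Lib.JankoFourOrder.Coord.Types
import Cfsg.Agent.Lib.JankoFourOrder.Central.Elements

/-!
# Words in the coordinates and an element outside them, read in charts (owner: helper25)
-/

set_option autoImplicit false
set_option linter.unusedSectionVars false
set_option maxRecDepth 100000

namespace CfsgLib.JankoFourPresent

open Cfsg CfsgLib.JankoFourHexad CfsgLib.JankoFourOrder CfsgLib.JankoFourOrder.Central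
open CfsgLib.Sporadic (Rep isAut pone pmul exists_M24_elt)
open CfsgLib.ThreeTrans.M24Inv (peq peq_iff)

/-- A permutation of the Mathieu group from its packed form. -/
noncomputable def pe (p : ℕ) : ↥M24 := if h : isAut p = true then (exists_M24_elt h).choose else 1

theorem rep_pe {p : ℕ} (h : isAut p = true) : Rep (pe p).1 p := by
  rw [pe, dif_pos h]; exact (exists_M24_elt h).choose_spec

theorem eq_pe {σ : ↥M24} {p q : ℕ} (hp : Rep σ.1 p) (hq : isAut q = true) (e : peq q p = true) :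
    pe q = σ := Subtype.ext ((peq_iff (rep_pe hq) hp).1 e)

theorem pe_one : pe pone = 1 := by
  have h : isAut pone = true := by decide +kernel
  exact Subtype.ext (Rep.unique (rep_pe h) Rep.one)

theorem eq_one_of_peq {σ : ↥M24} {p : ℕ} (hp : Rep σ.1 p) (e : peq p pone = true) : σ = 1 :=
  Subtype.ext ((peq_iff hp Rep.one).1 e)

theorem isAut_pone : isAut pone = true := by decide +kernel

end CfsgLib.JankoFourPresent

namespace CfsgLib.JankoFour

open Cfsg CfsgLib.JankoFourHexad CfsgLib.JankoFourOrder CfsgLib.JankoFourOrder.Central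
open CfsgLib.JankoFourPresent
open CfsgLib.JankoFourClasses.Two (evalW)
open CfsgLib.Sporadic (Rep isAut pone pmul exists_M24_elt)
open CfsgLib.ThreeTrans.M24Inv (peq peq_iff)
open Setting (Zm)

variable {G : Type*} [Group G] [Finite G]

namespace HexBase

variable {S : Setting G} (B : HexBase S)

/-- An element with a given pair as image. -/
def Im (u : G) (a : ℕ × ℕ) : Prop := B.Img u a.1 a.2

theorem Im.mul {u v : G} {a b : ℕ × ℕ} (h : B.Im u a) (h' : B.Im v b) : B.Im (u * v) (imul a b) :=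
  Img.mul B h h'

theorem Im.of_eq {u : G} {a b : ℕ × ℕ} (h : B.Im u a) (e : ieq a b = true) : B.Im u b := by
  rw [ieq, Bool.and_eq_true, Nat.beq_eq, Nat.beq_eq] at e
  rwa [← show a = b from Prod.ext e.1 e.2]

theorem Im.zm {u v : G} {a : ℕ × ℕ} (h : B.Im u a) (h' : B.Im v a) : S.Zm u v := B.zm_of_img h h'

/-- An element of the class of `z` whose translate is not, up to `z`. -/
theorem eq_of_pinned {u v : G} (h : S.Zm u v) (hv : IsConj S.z v) (hu : ¬ IsConj S.z (S.z * u)) : u = v := by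
  rcases h with e | e
  · exact e
  · exact absurd (by rwa [e, ← mul_assoc, S.hE.mul_self_z, one_mul]) hu

theorem vel_zm_of_lt {a b : ℕ} (h : Nat.xor a b < 2) : S.Zm (B.vel a) (B.vel b) := by
  have e : B.vel a = B.vel (Nat.xor a b) * B.vel b := by
    rw [B.vel_xor]; congr 1
    show a = (a ^^^ b) ^^^ b
    rw [Nat.xor_assoc, Nat.xor_self, Nat.xor_zero]
  rcases (show Nat.xor a b = 0 ∨ Nat.xor a b = 1 by omega) with h0 | h0 <;> rw [h0] at e
  · exact Or.inl (by rw [e, B.vel_zero, one_mul])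
  · exact Or.inr (by rw [e, B.vel_one])

namespace NVModel

variable {B} (M : B.NVModel)

/-- The element of a datum. -/
noncomputable def nvG (d : NVData) : G := B.vel d.1 * M.k (pe d.2.1)

theorem img_nv {d : NVData} (h : nvOK d = true) : B.Im (M.nvG d) (nvImg d) := by
  obtain ⟨c, g, y, v, p, m⟩ := d
  simp only [nvOK, Bool.and_eq_true, Nat.blt_eq] at h
  obtain ⟨⟨⟨⟨⟨⟨hc, hg⟩, hy⟩, hp⟩, hj⟩, he⟩, hx⟩ := h
  obtain ⟨τ, hτ, hI⟩ := M.img_of_check hy (rep_pe hp) hj
  obtain rfl : τ = pe g := Subtype.ext ((peq_iff hτ (rep_pe hg)).1 he)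
  exact Img.congr B hI ((B.vel_zm_of_lt hx).symm.mul_right _)

theorem im_conjG {d : ConjData} (h : conjOK d = true) :
    ∃ u : G, Commute u S.z ∧ B.Im (u * M.nvG d.2.2 * u⁻¹) (conjImg d) := by
  obtain ⟨w, mi, e⟩ := d
  simp only [conjOK, Bool.and_eq_true, List.all_eq_true, Nat.blt_eq, Nat.beq_eq] at h
  obtain ⟨⟨⟨hw, hmi⟩, he⟩, hd⟩ := h
  obtain ⟨u, hu, hu'⟩ := B.exists_evalW M hw
  exact ⟨u, hu.1, ((B.img_norm hu hu').mul B (M.img_nv hd)).mul B (B.img_norm (hu.inv S) (hu'.inv B hu.1 hmi he))⟩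

theorem nv_mem {c h : ℕ} (hc : c < 2048) : B.vel c * M.k (pe h) ∈ B.NV := M.mem_NV hc _

theorem aMul {c : ℕ} {σ τ : ↥M24} {p : ℕ} (hp : Rep σ.1 p) {e : ℕ} (he : e < 2048) :
    B.vel c * M.k σ * (B.vel e * M.k τ) = B.vel (Nat.xor c (pImg p e)) * M.k (σ * τ) := M.mul_eq hp c he

theorem nv_sq {c h : ℕ} (hc : c < 2048) (hh : isAut h = true) (e : Nat.beq (Nat.xor c (pImg h c)) 0 = true)
    (e2 : peq (pmul h h) pone = true) : B.vel c * M.k (pe h) * (B.vel c * M.k (pe h)) = 1 := by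
  have h2 : pe h * pe h = 1 := eq_one_of_peq ((rep_pe hh).mul (rep_pe hh)) e2
  rw [M.aMul (rep_pe hh) hc, Nat.eq_of_beq_eq_true e, B.vel_zero, h2, map_one, one_mul]

theorem nv_ne_one {c h : ℕ} (hc : c < 2048) (h0 : c ≠ 0) : B.vel c * M.k (pe h) ≠ 1 := fun e => h0 <| by
  refine (M.hinj c 0 (pe h) 1 hc (by norm_num) ?_).1
  rw [e, B.vel_zero, map_one, one_mul]

variable [IsSimpleGroup G]

/-- The classes of the two lifts of an element of the coordinates. -/
theorem nv_types (hG : ¬ IsMulCommutative G) (hJ : IsOfJankoFourType G) {d : NVData} (hd : nvOK d = true)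
    (e : Nat.beq (Nat.xor d.1 (pImg d.2.1 d.1)) 0 = true) (e2 : peq (pmul d.2.1 d.2.1) pone = true)
    (h1 : Nat.blt 1 d.1 = true) :
    (IsConj S.z (M.nvG d) ↔ fastZ d.1 d.2.1 = true) ∧
      (IsConj S.z (S.z * M.nvG d) ↔ fastZ (Nat.xor d.1 1) d.2.1 = true) := by
  have hz : Commute (M.nvG d) S.z := (M.img_nv hd).commute B
  obtain ⟨c, g, y, v, p, m⟩ := d
  simp only [nvOK, Bool.and_eq_true, Nat.blt_eq] at hd
  obtain ⟨⟨⟨⟨⟨⟨hc, hg⟩, -⟩, -⟩, -⟩, -⟩, -⟩ := hd
  rw [Nat.blt_eq] at h1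
  have hc1 : Nat.xor c 1 < 2048 := Nat.xor_lt_two_pow (n := 11) hc (by norm_num)
  have h0 : c ≠ 0 := by simp only at h1; omega
  have h0' : Nat.xor c 1 ≠ 0 := fun z0 => by
    have : c = 1 := Nat.xor_eq_zero_iff.1 z0
    simp only at h1; omega
  refine ⟨M.isZ_iff hG hJ hc (rep_pe hg) (M.nv_sq hc hg e e2) (M.nv_ne_one hc h0), ?_⟩
  have ez : S.z * (B.vel c * M.k (pe g)) = B.vel (Nat.xor c 1) * M.k (pe g) := by
    rw [← B.vel_one, ← mul_assoc, B.vel_xor, show Nat.xor 1 c = Nat.xor c 1 from Nat.xor_comm _ _]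
  show IsConj S.z (S.z * (B.vel c * M.k (pe g))) ↔ _
  rw [ez]
  refine M.isZ_iff hG hJ hc1 (rep_pe hg) ?_ (M.nv_ne_one hc1 h0')
  rw [← ez, show S.z * (B.vel c * M.k (pe g)) * (S.z * (B.vel c * M.k (pe g))) =
      S.z * ((B.vel c * M.k (pe g)) * S.z) * (B.vel c * M.k (pe g)) by group,
    show B.vel c * M.k (pe g) * S.z = S.z * (B.vel c * M.k (pe g)) from hz.eq, ← mul_assoc S.z, S.hE.mul_self_z,
    one_mul, M.nv_sq hc hg e e2]

end NVModel

end HexBase

end CfsgLib.JankoFour
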