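import Cfsg.Agent.Lib.JankoFourPresent.Relators
import Cfsg.Agent.Lib.JankoFourOrder.Coord.Model
import Cfsg.Agent.Lib.JankoFourBridge.Main
import Cfsg.Agent.Lib.Sporadic.J4Inj.Iso

/-!
# A simple group of Janko-four type is the presented group, given its order (owner: helper25)
-/

set_option autoImplicit false
set_option linter.unusedSectionVars false
set_option maxRecDepth 100000

namespace CfsgLib.JankoFourPresent

open Cfsg CfsgLib.JankoFour

/-- A simple group of Janko-four type with the order of `J₄` is isomorphic to the presented group. -/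
theorem iso_of_type {G : Type*} [Group G] [Finite G] [IsSimpleGroup G] (hG : ¬ IsMulCommutative G)
    (hJ : IsOfJankoFourType G) (hord : Nat.card G = 86775571046077562880) : Spor.IsoJ4 G := by
  obtain ⟨z, P, hP⟩ := id hJ
  obtain ⟨S, -, -⟩ := exists_setting hP
  obtain ⟨B⟩ := S.exists_hexBase
  obtain ⟨M⟩ := B.exists_nvModel hG hJ
  obtain ⟨t, ht⟩ := M.exists_tElt hG hJ
  obtain ⟨f, hf⟩ := M.exists_hom hG hJ ht
  haveI hs : IsSimpleGroup Spor.J4 := CfsgLib.Sporadic.J4Inj.isJ4.1
  have hc : Nat.card Spor.J4 = 86775571046077562880 := CfsgLib.Sporadic.J4Inj.isJ4.2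
  have hinj : Function.Injective f := by
    rw [← MonoidHom.ker_eq_bot_iff]
    rcases (inferInstance : f.ker.Normal).eq_bot_or_eq_top with h | h
    · exact h
    · exact absurd (MonoidHom.mem_ker.1 (h ▸ Subgroup.mem_top _)) hf
  exact ⟨(MulEquiv.ofBijective f (hinj.bijective_of_nat_card_le (le_of_eq (by rw [hord, hc])))).symm⟩

end CfsgLib.JankoFourPresent
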