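import Cfsg.Agent.Lib.JankoFourPresent.Words
import Cfsg.Prelude.Def_Spor_J4

/-!
# The twelve relators of the presented fourth Janko group (owner: helper25)
-/

set_option autoImplicit false
set_option linter.unusedSectionVars false
set_option maxRecDepth 100000

namespace CfsgLib.JankoFour

open Cfsg CfsgLib.JankoFourHexad CfsgLib.JankoFourOrder CfsgLib.JankoFourOrder.Central
open CfsgLib.JankoFourPresent
open CfsgLib.Sporadic (Rep isAut pone pmul forallLt_elim)
open CfsgLib.ThreeTrans.M24Inv (peq peq_iff)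
open Setting (Zm)

variable {G : Type*} [Group G] [Finite G]

namespace HexBase

variable {S : Setting G} {B : HexBase S}

namespace NVModel

variable (M : B.NVModel)

theorem nvOK_bounds {d : NVData} (h : nvOK d = true) : d.1 < 2048 ∧ isAut d.2.1 = true := by
  obtain ⟨c, g, y, v, p, m⟩ := d
  simp only [nvOK, Bool.and_eq_true, Nat.blt_eq] at h
  exact ⟨h.1.1.1.1.1.1, h.1.1.1.1.1.2⟩

theorem rep_list : ∀ {l : List ℕ}, (∀ p ∈ l, isAut p = true) →
    ∃ σ : ↥M24, Rep σ.1 (pList l) ∧ M.k σ = (l.map fun p => M.k (pe p)).prod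
  | [], _ => ⟨1, Rep.one, map_one _⟩
  | p :: l, h => by
    obtain ⟨σ, hσ, e⟩ := rep_list (l := l) fun q hq => h q (by simp [hq])
    exact ⟨pe p * σ, (rep_pe (h p (by simp))).mul hσ, by rw [map_mul, e, List.map_cons, List.prod_cons]⟩

theorem prod_eq_one {l : List ℕ} (h : ∀ p ∈ l, isAut p = true) (e : peq (pList l) pone = true) :
    (l.map fun p => M.k (pe p)).prod = 1 := by
  obtain ⟨σ, hσ, hk⟩ := M.rep_list h
  rw [← hk, eq_one_of_peq hσ e, map_one]

theorem prod_eq_pe {l : List ℕ} (h : ∀ p ∈ l, isAut p = true) (hl : isAut (pList l) = true) :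
    M.k (pe (pList l)) = (l.map fun p => M.k (pe p)).prod := by
  obtain ⟨σ, hσ, hk⟩ := M.rep_list h
  rw [← hk, show σ = pe (pList l) from Subtype.ext (Rep.unique hσ (rep_pe hl))]

/-- The image of `x`. -/
noncomputable def gx : G := M.k (pe xP)

/-- The image of `y`. -/
noncomputable def gy : G := M.k (pe yP)

theorem aut_gens : isAut xP = true ∧ isAut yP = true ∧ isAut yiP = true := by
  have := perms_ok
  simp only [Bool.and_eq_true] at this
  exact ⟨this.1.1.1.1.1.1.1.1.1.1.1.1.1.1.1, this.1.1.1.1.1.1.1.1.1.1.1.1.1.1.2, this.1.1.1.1.1.1.1.1.1.1.1.1.1.2⟩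

theorem x_inv : M.gx⁻¹ = M.gx := by
  refine inv_eq_of_mul_eq_one_right ?_
  have := M.prod_eq_one (l := [xP, xP]) (by simp [aut_gens.1]) (by decide +kernel)
  simpa [gx] using this

theorem y_inv : M.k (pe yiP) = M.gy⁻¹ := by
  refine (inv_eq_of_mul_eq_one_right ?_).symm
  have := M.prod_eq_one (l := [yP, yiP]) (by simp [aut_gens.2.1, aut_gens.2.2]) (by decide +kernel)
  simpa [gy] using this

theorem list_aut {l : List ℕ} (h : ∀ p ∈ l, p = xP ∨ p = yP ∨ p = yiP) : ∀ p ∈ l, isAut p = true := fun p hp => by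
  rcases h p hp with rfl | rfl | rfl
  exacts [aut_gens.1, aut_gens.2.1, aut_gens.2.2]

variable [IsSimpleGroup G] (hG : ¬ IsMulCommutative G) (hJ : IsOfJankoFourType G) {t : G} (ht : M.TElt t)

include hG hJ ht

omit hG hJ in
theorem t_sq : t * t = 1 := by
  obtain ⟨g, hg⟩ := isConj_iff.1 ht.isZ
  rw [← hg, show g * S.z * g⁻¹ * (g * S.z * g⁻¹) = g * (S.z * S.z) * g⁻¹ by group, S.hE.mul_self_z, mul_one,
    mul_inv_cancel]

omit hG hJ in
theorem tc_sq (σ : ↥M24) : M.tc t σ * M.tc t σ = 1 := by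
  rw [tc, show M.k σ * t * (M.k σ)⁻¹ * (M.k σ * t * (M.k σ)⁻¹) = M.k σ * (t * t) * (M.k σ)⁻¹ by group, M.t_sq ht,
    mul_one, mul_inv_cancel]

theorem comm_x : Commute t M.gx := TElt.comm M hG hJ ht 8 (by norm_num)

theorem comm_s : Commute t (M.k (pe sP)) := by
  have h := perms_ok
  simp only [Bool.and_eq_true] at h
  exact M.pe_word_comm hG hJ ht h.1.1.1.1.1.1.1.1.1.1.1.1.2 h.2 h.1.2

omit hG hJ ht in
theorem wOne_eq : M.k (pe wOneInv) = (M.k (pe wOne))⁻¹ := by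
  have h := perms_ok
  simp only [Bool.and_eq_true] at h
  rw [eq_inv_iff_mul_eq_one, ← map_mul]
  have e : pe wOne * pe wOneInv = 1 :=
    eq_one_of_peq ((rep_pe h.1.1.1.1.1.1.1.1.1.1.2).mul (rep_pe h.1.1.1.1.1.1.1.2)) h.1.1.1.1.1.2
  rw [mul_eq_one_comm.1 e, map_one]

omit hG hJ ht in
theorem wTwo_eq : M.k (pe wTwoInv) = (M.k (pe wTwo))⁻¹ := by
  have h := perms_ok
  simp only [Bool.and_eq_true] at h
  rw [eq_inv_iff_mul_eq_one, ← map_mul]
  have e : pe wTwo * pe wTwoInv = 1 :=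
    eq_one_of_peq ((rep_pe h.1.1.1.1.1.1.1.1.1.2).mul (rep_pe h.1.1.1.1.1.1.2)) h.1.1.1.1.2
  rw [mul_eq_one_comm.1 e, map_one]

/-- The first long relator. -/
theorem rel_one : (M.gy * ((M.k (pe wOne))⁻¹ * t * M.k (pe wOne))) ^ 3 = 1 := by
  have hp := perms_ok
  simp only [Bool.and_eq_true] at hp
  have hwi : isAut wOneInv = true := hp.1.1.1.1.1.1.1.2
  have hw : pairOK (wOneInv, wOne) = true := by decide +kernel
  set u := (M.k (pe wOne))⁻¹ * t * M.k (pe wOne) with hu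
  have hu' : u = M.tc t (pe wOneInv) := by rw [tc, M.wOne_eq, inv_inv]
  have hy3 : M.gy * M.gy * M.gy = 1 := by
    have := M.prod_eq_one (l := [yP, yP, yP]) (list_aut (by simp)) (by decide +kernel)
    simpa [gy, mul_assoc] using this
  have hraw : ∀ i < 3, M.rawG t (oneRaw i) = M.gy ^ i * u * (M.gy ^ i)⁻¹ := by
    intro i hi
    have ha : isAut (pList (List.replicate i yP ++ [wOneInv])) = true := by interval_cases i <;> decide +kernel
    have hall : ∀ p ∈ List.replicate i yP ++ [wOneInv], isAut p = true := by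
      intro p hp
      rcases List.mem_append.1 hp with h | h
      · rw [List.eq_of_mem_replicate h]; exact aut_gens.2.1
      · rw [List.mem_singleton.1 h]; exact hwi
    show M.tc t (pe (pList (List.replicate i yP ++ [wOneInv]))) * 1 = _
    rw [mul_one, tc, M.prod_eq_pe hall ha, List.map_append, List.map_replicate, List.prod_append,
      List.prod_replicate, List.map_singleton, List.prod_singleton, hu', tc]
    show M.gy ^ i * _ * t * (M.gy ^ i * _)⁻¹ = _
    group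
  have hc := one_chart
  simp only [Bool.and_eq_true] at hc
  obtain ⟨⟨hchart, hU⟩, hfix⟩ := hc
  have hch := hchart
  simp only [chartOK, Bool.and_eq_true, Nat.blt_eq, Nat.beq_eq] at hch
  obtain ⟨⟨⟨⟨h1, h2⟩, hz1⟩, hcz⟩, h3⟩ := hch
  have hyv : Commute M.gy (B.vel zOne) := by
    have := M.act_vel (rep_pe aut_gens.2.1) hz1
    rw [Nat.eq_of_beq_eq_true hfix] at this
    exact mul_inv_eq_iff_eq_mul.1 this
  have hnot : ∀ i < 3, ¬ IsConj S.z (B.vel zOne * M.rawG t (oneRaw i)) := by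
    intro i hi hh
    refine (M.tc_member ht hw hz1 hU).2 (hh.trans (isConj_iff.2 ⟨(M.gy ^ i)⁻¹, ?_⟩))
    rw [hraw i hi, hu', inv_inv, ← mul_assoc, show (M.gy ^ i)⁻¹ * B.vel zOne = B.vel zOne * (M.gy ^ i)⁻¹ from
      (hyv.pow_left i).inv_left.eq]
    group
  have hw1 := one_word
  simp only [Bool.and_eq_true, List.all_eq_true, Nat.blt_eq, Nat.beq_eq] at hw1
  obtain ⟨⟨⟨⟨⟨⟨⟨hwd, hmi⟩, hmul⟩, helts⟩, e0⟩, e1⟩, e2⟩, hprod⟩ := hw1
  obtain ⟨d, hd, hd'⟩ := B.exists_evalW M hwd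
  set r := M.k (pe rOne.1) with hrdef
  have hv : r * B.vel zOne * r⁻¹ = S.z := by rw [hrdef, M.act_vel (rep_pe h1) hz1, hcz, B.vel_one]
  have key : ∀ i < 3, ∀ D : List Dat, wordOK rOne.1 rOne.2 (oneRaw i) D = true →
      ieq (oneImg D) (nvImg (oneElt i)) = true → d * r * M.rawG t (oneRaw i) * (d * r)⁻¹ = M.nvG (oneElt i) := by
    intro i hi D hD he
    have hh := forallLt_elim helts hi
    simp only [pinOK, Bool.and_eq_true, Bool.not_eq_true'] at hh
    obtain ⟨hok, ⟨⟨⟨q1, q2⟩, q3⟩, qz⟩, -⟩ := hh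
    have hI : B.Im (d * (r * M.rawG t (oneRaw i) * r⁻¹) * d⁻¹) (nvImg (oneElt i)) :=
      (show B.Im _ (oneImg D) from ((B.img_norm hd hd').mul B (M.img_word hG hJ ht h1 h2 h3 hD)).mul B
        (B.img_norm (hd.inv S) (hd'.inv B hd.1 hmi hmul))).of_eq B he
    rw [show d * r * M.rawG t (oneRaw i) * (d * r)⁻¹ = d * (r * M.rawG t (oneRaw i) * r⁻¹) * d⁻¹ by group]
    refine eq_of_pinned (hI.zm B (M.img_nv hok)) ((M.nv_types hG hJ hok q1 q2 q3).1.2 qz) fun hc => hnot i hi ?_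
    refine hc.trans (isConj_iff.2 ⟨(d * r)⁻¹, ?_⟩)
    rw [show (d * r)⁻¹ * (S.z * (d * (r * M.rawG t (oneRaw i) * r⁻¹) * d⁻¹)) * (d * r)⁻¹⁻¹ =
      r⁻¹ * (d⁻¹ * S.z * d) * r * M.rawG t (oneRaw i) by group, hd.1.inv_left.eq, inv_mul_cancel_right, ← hv]
    group
  have k0 := key 0 (by norm_num) _ one_data0 e0
  have k1 := key 1 (by norm_num) _ one_data1 e1
  have k2 := key 2 (by norm_num) _ one_data2 e2
  have hN : M.nvG (oneElt 1) * M.nvG (oneElt 2) = M.nvG (oneElt 0) := by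
    have hk0 := forallLt_elim helts (show 0 < 3 by norm_num)
    have hk1 := forallLt_elim helts (show 1 < 3 by norm_num)
    have hk2 := forallLt_elim helts (show 2 < 3 by norm_num)
    rcases h0 : oneElt 0 with ⟨a, p, y0, v0, p0, m0⟩
    rcases h1' : oneElt 1 with ⟨b, q, y1, v1, p1, m1⟩
    rcases h2' : oneElt 2 with ⟨c, w, y2, v2, p2, m2⟩
    rw [h0, h1', h2'] at hprod
    rw [h0] at hk0
    rw [h1'] at hk1
    rw [h2'] at hk2
    simp only [Bool.and_eq_true, nvOK, Nat.blt_eq, Nat.beq_eq, aMulP] at hprod hk0 hk1 hk2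
    have hp' : pe p = pe q * pe w :=
      (Subtype.ext ((peq_iff ((rep_pe hk1.1.1.1.1.1.1.2).mul (rep_pe hk2.1.1.1.1.1.1.2))
        (rep_pe hk0.1.1.1.1.1.1.2)).1 hprod.2) : pe q * pe w = pe p).symm
    show B.vel b * M.k (pe q) * (B.vel c * M.k (pe w)) = B.vel a * M.k (pe p)
    rw [M.aMul (rep_pe hk1.1.1.1.1.1.1.2) hk2.1.1.1.1.1.1.1, hp', hprod.1]
  have h12 : M.rawG t (oneRaw 1) * M.rawG t (oneRaw 2) = M.rawG t (oneRaw 0) := by
    have : d * r * (M.rawG t (oneRaw 1) * M.rawG t (oneRaw 2)) * (d * r)⁻¹ =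
        d * r * M.rawG t (oneRaw 0) * (d * r)⁻¹ := by
      rw [k0, ← hN, ← k1, ← k2]; group
    exact mul_left_cancel (mul_right_cancel this)
  rw [hraw 0 (by norm_num), hraw 1 (by norm_num), hraw 2 (by norm_num), pow_zero, one_mul, inv_one, mul_one] at h12
  calc (M.gy * u) ^ 3 = M.gy ^ 1 * u * (M.gy ^ 1)⁻¹ * (M.gy ^ 2 * u * (M.gy ^ 2)⁻¹) *
        (M.gy * M.gy * M.gy) * u := by rw [pow_succ, pow_two]; group
    _ = u * u := by rw [hy3, mul_one, h12]
    _ = 1 := by rw [hu']; exact M.tc_sq ht _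

/-- The second long relator. -/
theorem rel_two : (M.k (pe aP) * t * ((M.k (pe wTwo))⁻¹ * t * M.k (pe wTwo))) ^ 2 = 1 := by
  have hp := perms_ok
  simp only [Bool.and_eq_true] at hp
  have ha : isAut aP = true := hp.1.1.1.1.1.1.1.1.1.1.1.2
  have hc := two_charts
  simp only [Bool.and_eq_true, Nat.blt_eq, Bool.not_eq_true'] at hc
  obtain ⟨⟨⟨⟨⟨⟨⟨⟨⟨⟨⟨⟨⟨⟨⟨⟨⟨cA, cC⟩, cE⟩, hsM⟩, hsT⟩, hsU⟩, hvM⟩, hnT⟩, hnU⟩, haN⟩, hac⟩, hxT⟩, hxU⟩, hne⟩,
    hUA⟩, hUmA⟩, hUmC⟩, hUwC⟩ := hc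
  set u := (M.k (pe wTwo))⁻¹ * t * M.k (pe wTwo) with hu
  have hu' : u = M.tc t (pe wTwoInv) := by rw [tc, M.wTwo_eq, inv_inv]
  have hsinv : M.tc t (pe sM.1) = (M.tc t (pe sM.1))⁻¹ := (inv_eq_of_mul_eq_one_right (M.tc_sq ht _)).symm
  set m := M.tc t (pe sM.1) * B.vel vM with hm
  have hmi : m⁻¹ = B.vel vM * M.tc t (pe sM.1) := by rw [hm, mul_inv_rev, B.vel_inv, ← hsinv]
  clear_value m
  have hm0 : M.rawG t mRaw = m := by simp [mRaw, rawG, hm, pe_one]
  have hm1 : M.rawG t mInvRaw = m⁻¹ := by simp [mInvRaw, rawG, hmi, pe_one]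
  have eA : M.rawG t aRaw = m * M.k (pe aP) * m⁻¹ := by
    rw [aRaw, M.rawG_append, M.rawG_append, hm0, hm1]; simp [rawG, B.vel_zero]
  have eT : M.rawG t tRaw = m * t * m⁻¹ := by
    rw [tRaw, M.rawG_append, M.rawG_append, hm0, hm1]; simp [rawG, tc, pe_one]
  have eU : M.rawG t uRaw = m * u * m⁻¹ := by
    rw [uRaw, M.rawG_append, M.rawG_append, hm0, hm1]; simp [rawG, hu']
  have zlt : zA < 2048 ∧ zC < 2048 := by
    simp only [chartOK, Bool.and_eq_true, Nat.blt_eq] at cA cC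
    exact ⟨cA.1.1.2, cC.1.1.2⟩
  -- the conjugate of `a`
  have q1 := two_aA
  have q2 := two_aC
  simp only [Bool.and_eq_true] at q1 q2
  have hA : M.rawG t aRaw = M.rawG t naRaw := by
    rcases M.word_agree hG hJ ht cA q1.1.1 q1.1.2 q1.2 with e | e
    · exact e
    rcases M.word_agree hG hJ ht cC q2.1.1 q2.1.2 q2.2 with e' | e'
    · exact e'
    refine absurd (B.vel_inj zlt.1 zlt.2 (mul_right_cancel (e.symm.trans e'))) fun h => ?_
    rw [h, Nat.beq_refl] at hne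
    exact Bool.noConfusion hne
  -- the conjugates of the two involutions
  have hzt : ∀ (n x : ℕ) (s : ℕ × ℕ), zVec x = true →
      IsConj S.z (M.rawG t [.v n pone, .T s.1, .v x pone, .T s.1, .v n pone]) := by
    intro n x s hx
    simp only [zVec, Bool.and_eq_true, Nat.blt_eq] at hx
    obtain ⟨⟨hx1, hx2⟩, hx3⟩ := hx
    have h1 : IsConj S.z (B.vel x * M.k (pe pone)) :=
      (M.isZ_iff hG hJ hx1 (rep_pe isAut_pone)
        (by rw [pe_one, map_one, mul_one]; exact B.vel_sq x) (M.nv_ne_one hx1 (by omega))).2 hx3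
    rw [pe_one, map_one, mul_one] at h1
    refine h1.trans (isConj_iff.2 ⟨B.vel n * M.tc t (pe s.1), ?_⟩)
    simp [rawG, pe_one, mul_assoc, B.vel_inv, inv_eq_of_mul_eq_one_right (M.tc_sq ht (pe s.1))]
  have hmA : Commute m (B.vel zA) :=
    hm ▸ (M.tc_member ht (σ := sM.1) (σi := sM.2) hsM zlt.1 hUmA).1.mul_left (B.vel_comm vM _)
  have hmC : Commute m (B.vel zC) :=
    hm ▸ (M.tc_member ht (σ := sM.1) (σi := sM.2) hsM zlt.2 hUmC).1.mul_left (B.vel_comm vM _)
  have pinned : ∀ {w c : G}, Commute m c → IsConj S.z (c * (m * w * m⁻¹)) → IsConj S.z (c * w) :=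
    fun {w c} hmc h => h.trans (isConj_iff.2 ⟨m⁻¹, by
      rw [inv_inv, ← mul_assoc, ← mul_assoc, hmc.inv_left.eq]; group⟩)
  have cancel : ∀ {c : ℕ} {X Y : G}, X = B.vel c * Y → Y = B.vel c * X := fun {c X Y} e => by
    rw [e, ← mul_assoc, B.vel_sq, one_mul]
  have q3 := two_tA
  have q4 := two_uC
  simp only [Bool.and_eq_true] at q3 q4
  have hT : M.rawG t tRaw = M.rawG t ntRaw := by
    rcases M.word_agree hG hJ ht cA q3.1.1 q3.1.2 q3.2 with e | e
    · exact e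
    refine absurd (pinned hmA ?_) (ht.notZ _ zlt.1 hUA)
    rw [← eT, ← cancel e]
    exact hzt _ _ _ hxT
  have hU : M.rawG t uRaw = M.rawG t nuRaw := by
    rcases M.word_agree hG hJ ht cC q4.1.1 q4.1.2 q4.2 with e | e
    · exact e
    have hw2 : pairOK (wTwoInv, wTwo) = true := by decide +kernel
    refine absurd (pinned hmC ?_) (hu' ▸ (M.tc_member ht hw2 zlt.2 hUwC).2)
    rw [← eU, ← cancel e]
    exact hzt _ _ _ hxU
  -- the final check
  have q5 := two_R
  simp only [Bool.and_eq_true] at q5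
  obtain ⟨⟨⟨hw, hcj⟩, he⟩, hsq⟩ := q5
  simp only [chartOK, Bool.and_eq_true] at cE
  obtain ⟨⟨⟨⟨e1, e2⟩, -⟩, -⟩, e3⟩ := cE
  obtain ⟨d, hd, hI⟩ := M.im_conjG hcj
  have hRR := B.sq_eq_of_img ((M.img_word hG hJ ht e1 e2 e3 hw).of_eq B he) hI
  have hd' : nvOK finConj.2.2 = true := by
    simp only [conjOK, Bool.and_eq_true] at hcj; exact hcj.2
  have hN : M.nvG finConj.2.2 * M.nvG finConj.2.2 = 1 := by
    have hb := nvOK_bounds hd'
    exact M.nv_sq hb.1 hb.2 hsq.1 hsq.2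
  set R := M.rawG t finRaw with hR
  have hR2 : R * R = 1 := by
    rw [show d * M.nvG finConj.2.2 * d⁻¹ * (d * M.nvG finConj.2.2 * d⁻¹) =
      d * (M.nvG finConj.2.2 * M.nvG finConj.2.2) * d⁻¹ by group, hN, mul_one, mul_inv_cancel,
      show M.k (pe rE.1) * R * (M.k (pe rE.1))⁻¹ * (M.k (pe rE.1) * R * (M.k (pe rE.1))⁻¹) =
        M.k (pe rE.1) * (R * R) * (M.k (pe rE.1))⁻¹ by group, mul_inv_eq_one] at hRR
    simpa using hRR
  have hRm : R = m * (M.k (pe aP) * t * u) * m⁻¹ := by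
    rw [hR, finRaw, M.rawG_append, M.rawG_append, ← hA, ← hT, ← hU, eA, eT, eU]; group
  rw [hRm, show m * (M.k (pe aP) * t * u) * m⁻¹ * (m * (M.k (pe aP) * t * u) * m⁻¹) =
    m * (M.k (pe aP) * t * u) ^ 2 * m⁻¹ by rw [pow_two]; group, mul_inv_eq_one] at hR2
  simpa using hR2

/-- The generators and all relators. -/
theorem exists_hom : ∃ f : Spor.J4 →* G, f (PresentedGroup.of Spor.J4.Gen.x) ≠ 1 := by
  let gen : Spor.J4.Gen → G := fun g => match g with
    | .x => M.gx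
    | .y => M.gy
    | .t => t
  have hone : ∀ (n : ℕ) (l : List ℕ), (∀ p ∈ l, p = xP ∨ p = yP ∨ p = yiP) → peq (pList (rep n l)) pone = true →
      (l.map fun p => M.k (pe p)).prod ^ n = 1 := by
    intro n l hl e
    have h := M.prod_eq_one (list_aut (l := rep n l) (fun p hp => by
      simp only [JankoFourPresent.rep, List.mem_flatten, List.mem_replicate] at hp
      obtain ⟨q, ⟨-, rfl⟩, hq⟩ := hp
      exact hl p hq)) e
    rwa [JankoFourPresent.rep, List.map_flatten, List.prod_flatten, List.map_replicate, List.map_replicate,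
      List.prod_replicate] at h
  have hr := rels_ok
  simp only [Bool.and_eq_true] at hr
  obtain ⟨⟨⟨⟨⟨⟨r1, r2⟩, r3⟩, r4⟩, r5⟩, r6⟩, r7⟩ := hr
  have kx : M.k (pe xP) = M.gx := rfl
  have ky : M.k (pe yP) = M.gy := rfl
  have hp := perms_ok
  simp only [Bool.and_eq_true] at hp
  have lemS : M.k (pe sP) = M.gy * M.gx * M.gy * (M.gx * M.gy⁻¹) ^ 2 * (M.gx * M.gy) ^ 3 := by
    rw [sP, M.prod_eq_pe (list_aut (by simp [sL, JankoFourPresent.rep, List.replicate]))
      hp.1.1.1.1.1.1.1.1.1.1.1.1.2]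
    simp [sL, JankoFourPresent.rep, List.replicate, kx, ky, M.y_inv, pow_succ, mul_assoc]
  have lemW : M.k (pe wOne) = M.gy * M.gx * M.gy⁻¹ * M.gx * M.gy * M.gx * M.gy⁻¹ * M.gx := by
    rw [wOne, M.prod_eq_pe (list_aut (by simp)) hp.1.1.1.1.1.1.1.1.1.1.2]
    simp [kx, ky, M.y_inv, mul_assoc]
  have lemA : M.k (pe aP) = (M.gy * M.gx * M.gy * M.gx * M.gy * M.gx * M.gy) ^ 3 := by
    rw [aP, M.prod_eq_pe (list_aut (by simp [JankoFourPresent.rep, List.replicate])) hp.1.1.1.1.1.1.1.1.1.1.1.2]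
    simp [JankoFourPresent.rep, List.replicate, kx, ky, pow_succ, mul_assoc]
  have lemW2 : M.k (pe wTwo) = (M.gx * M.gy) ^ 3 * M.gy * (M.gx * M.gy) ^ 6 * M.gy := by
    rw [wTwo, M.prod_eq_pe (list_aut (by simp [JankoFourPresent.rep, List.replicate])) hp.1.1.1.1.1.1.1.1.1.2]
    simp [JankoFourPresent.rep, List.replicate, kx, ky, pow_succ, mul_assoc]
  have hrels : ∀ r ∈ Spor.coxRelators Spor.J4.edges ∪ {r | r ∈ Spor.J4.extra}, FreeGroup.lift gen r = 1 := by
    rintro r (⟨a, ha, -⟩ | hr)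
    · simp [Spor.J4.edges, Spor.coxNodes] at ha
    simp only [Spor.J4.extra, Set.mem_setOf_eq, List.mem_cons, List.not_mem_nil, or_false] at hr
    rcases hr with rfl | rfl | rfl | rfl | rfl | rfl | rfl | rfl | rfl | rfl | rfl | rfl <;>
      simp only [map_mul, map_pow, map_inv, FreeGroup.lift_apply_of, Spor.J4.x, Spor.J4.y, Spor.J4.t, gen]
    · rw [pow_two]; exact inv_eq_iff_mul_eq_one.1 M.x_inv
    · simpa [ky] using hone 3 [yP] (by simp) r2
    · simpa [kx, ky] using hone 23 [xP, yP] (by simp) r3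
    · have := hone 12 [xP, yiP, xP, yP] (by simp) r4
      simpa [kx, ky, M.y_inv, M.x_inv, mul_assoc] using this
    · have := hone 5 [xP, yiP, xP, yiP, xP, yP, xP, yP] (by simp) r5
      simpa [kx, ky, M.y_inv, M.x_inv, mul_assoc] using this
    · have := hone 4 ([xP, yP] ++ JankoFourPresent.rep 3 [xP, yP, xP, yiP])
        (by simp [JankoFourPresent.rep, List.replicate]) r6
      simpa [JankoFourPresent.rep, List.replicate, kx, ky, M.y_inv, pow_succ, mul_assoc] using this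
    · have := M.prod_eq_one (list_aut (by simp [JankoFourPresent.rep, List.replicate])) r7
      simpa [JankoFourPresent.rep, List.replicate, kx, ky, M.y_inv, pow_succ, mul_assoc] using this
    · rw [pow_two]; exact M.t_sq ht
    · have hc := M.comm_s hG hJ ht
      rw [lemS] at hc
      rw [mul_assoc, mul_assoc, hc.eq, ← mul_assoc, ← mul_assoc]
      group
    · rw [mul_assoc, mul_assoc, (M.comm_x hG hJ ht).eq]
      group
    · have := M.rel_one hG hJ ht
      rwa [lemW] at this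
    · have := M.rel_two hG hJ ht
      rwa [lemA, lemW2] at this
  refine ⟨PresentedGroup.toGroup hrels, ?_⟩
  rw [PresentedGroup.toGroup.of]
  show M.k (pe xP) ≠ 1
  intro h
  have hk := (M.hinj 0 0 (pe xP) 1 (by norm_num) (by norm_num) (by rw [B.vel_zero, one_mul, one_mul, h, map_one])).2
  have : peq xP pone = true := (peq_iff (rep_pe aut_gens.1) Rep.one).2 (congrArg Subtype.val hk)
  have hne : peq xP pone = false := by decide +kernel
  rw [hne] at this
  exact Bool.noConfusion this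

end NVModel

end HexBase

end CfsgLib.JankoFour
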