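import Cfsg.Agent.Lib.JankoFourPresent.Main
import Cfsg.Agent.Lib.JankoFourPresent.AutHyp

/-!
# The two uniqueness statements, given the count of pairs at `z` (owner: helper25)
-/

set_option autoImplicit false

namespace CfsgLib.JankoFourPresent

open Cfsg CfsgLib.JankoFour

/-- From the type. -/
theorem iso_of_count {G : Type*} [Group G] [Finite G] [IsSimpleGroup G]
    (hz : ∀ (S : Setting G) (B : HexBase S), B.CentralPairCount) (hG : ¬ IsMulCommutative G)
    (hJ : IsOfJankoFourType G) : Spor.IsoJ4 G :=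
  iso_of_type hG hJ (CfsgLib.JankoFourBridge.card_of_type hG hJ hz)

/-- The hypotheses with `3 . M22` of index two. -/
theorem iso_of_centralizer {G : Type*} [Group G] [Finite G] [IsSimpleGroup G]
    (hz : ∀ (S : Setting G) (B : HexBase S), B.CentralPairCount) (t : G) (ht : orderOf t = 2)
    (Q N M : Subgroup (Subgroup.centralizer ({t} : Set G))) [Q.Normal] [N.Normal] [M.Normal] (hQN : Q ≤ N)
    (hNM : N ≤ M) (hM : M.index = 2) (hQ : Cfsg.IsExtraspecial 2 Q) (hcard : Nat.card Q = 2 ^ 13)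
    (hN : Nat.card N = 3 * Nat.card Q) (hcent : ⁅M, N⁆ ≤ Q) (hperf : M ≤ ⁅M, M⁆ ⊔ Q)
    (h2c : Subgroup.centralizer (Q : Set (Subgroup.centralizer ({t} : Set G))) ≤ Q)
    (hout : ∀ c : Subgroup.centralizer ({t} : Set G), (∀ m ∈ M, c * m * c⁻¹ * m⁻¹ ∈ N) → c ∈ M)
    (hM22 : Cfsg.Spor.IsoM22 (M ⧸ N.subgroupOf M)) : Spor.IsoJ4 G := by
  obtain ⟨h, hG⟩ := CfsgLib.JankoFourBridge.janko_type_of_centralizer t ht Q N M hQN hNM hM hQ hcard hN hcent
    hperf h2c hout hM22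
  exact iso_of_count hz hG ⟨t, h⟩

/-- The extraspecial setting with `3 . Aut M22`. -/
theorem iso_of_aut_setting {G : Type*} [Group G] [Finite G] [IsSimpleGroup G]
    (hz : ∀ (S : Setting G) (B : HexBase S), B.CentralPairCount) (τ : G)
    (Q N : Subgroup ↥(Subgroup.centralizer ({τ} : Set G))) [Q.Normal] [N.Normal]
    (hS : IsExtraspecialCentralizerSetting τ Q 6) (hQN : Q ≤ N) (hN3 : Nat.card ↥N = 3 * Nat.card ↥Q)
    (hns : ∀ K : Subgroup ↥(Subgroup.centralizer ({τ} : Set G)), K ⊓ N = Q → K ⊔ N = ⊤ → False)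
    (hAut : Nonempty (↥(Subgroup.centralizer ({τ} : Set G)) ⧸ N ≃* MulAut ↥Spor.M22)) : Spor.IsoJ4 G := by
  obtain ⟨h, hG⟩ := type_of_aut_setting τ Q N hS hQN hN3 hns hAut
  exact iso_of_count hz hG ⟨τ, h⟩

end CfsgLib.JankoFourPresent
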