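import Cfsg.Agent.Lib.JankoFourPresent.Checks
import Cfsg.Agent.Lib.JankoFourPresent.Letters
import Cfsg.Agent.Lib.JankoFourTrio.Special

/-!
# The element `t` centralizing a trio stabilizer (owner: helper25)
-/

set_option autoImplicit false
set_option linter.unusedSectionVars false
set_option maxRecDepth 100000

namespace CfsgLib.JankoFour

open Cfsg CfsgLib.JankoFourHexad CfsgLib.JankoFourOrder CfsgLib.JankoFourOrder.Central
open CfsgLib.JankoFourPresent
open CfsgLib.JankoFourTrio (gP gσ rσ rP rep_gσ rep_rσ inW TrioLift trioMask rσ_induction)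
open CfsgLib.Sporadic (Rep isAut pone pmul forallLt_elim)
open CfsgLib.ThreeTrans.M24Inv (peq peq_iff)
open Setting (Zm)

variable {G : Type*} [Group G] [Finite G]

namespace HexBase

variable {S : Setting G} {B : HexBase S}

namespace NVModel

variable (M : B.NVModel)

/-- The lift in the coordinates as a lift of the trio library. -/
noncomputable def trioLift [IsSimpleGroup G] (hG : ¬ IsMulCommutative G) (hJ : IsOfJankoFourType G) : TrioLift B where
  κ := M.k
  mem := M.hk
  moves := fun σ x y => by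
    obtain ⟨T⟩ := CfsgLib.JankoFourTrio.exists_trioLift B hG hJ
    have hp := CfsgLib.Sporadic.rep_packImage σ.1
    rw [M.act_k hp (pairCode_lt x y), ← B.act_pImg (T.mem σ) hp (T.moves σ) (pairCode_lt x y)]
    exact T.moves σ x y

theorem act_vel {σ : ↥M24} {p : ℕ} (hp : Rep σ.1 p) {n : ℕ} (hn : n < 2048) :
    M.k σ * B.vel n * (M.k σ)⁻¹ = B.vel (pImg p n) := (M.hact σ p hp n hn).2

variable [IsSimpleGroup G]

include M in
/-- An element conjugate to `z` whose translate by `z` is not, with the image of `t`. -/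
theorem exists_t (hG : ¬ IsMulCommutative G) (hJ : IsOfJankoFourType G) :
    ∃ t : G, B.Im t tImg ∧ IsConj S.z t ∧ ¬ IsConj S.z (S.z * t) := by
  have h := t_pin
  simp only [Bool.and_eq_true] at h
  obtain ⟨hc, hp⟩ := h
  obtain ⟨u, hu, hI⟩ := M.im_conjG hc
  have hd : nvOK tPin.2.2 = true := by
    simp only [conjOK, Bool.and_eq_true] at hc; exact hc.2
  simp only [pinOK, Bool.and_eq_true, Bool.not_eq_true'] at hp
  obtain ⟨⟨⟨⟨e, e2⟩, h1⟩, hz⟩, hnz⟩ := hp
  obtain ⟨i1, i2⟩ := M.nv_types hG hJ hd e e2 h1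
  refine ⟨_, hI, (i1.2 hz).trans (isConj_iff.2 ⟨u, rfl⟩), fun hh => ?_⟩
  have : IsConj S.z (S.z * M.nvG tPin.2.2) := hh.trans (isConj_iff.2 ⟨u⁻¹, by
    rw [inv_inv, ← mul_assoc, ← mul_assoc, show u⁻¹ * S.z = S.z * u⁻¹ from hu.inv_left.eq]
    group⟩)
  rw [i2.1 this] at hnz
  exact Bool.noConfusion hnz

/-- The element `t`: in the class of `z`, centralizing the trio, and moved out of it by the members. -/
structure TElt (t : G) : Prop where
  img : B.Im t tImg
  isZ : IsConj S.z t
  fix : ∀ u < 2048, inU u = true → Commute t (B.vel u)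
  notZ : ∀ u < 2048, inU u = true → ¬ IsConj S.z (B.vel u * t)
  low : ∀ i < 9, Commute t (M.k (pe (gList.getD i pone)))

theorem exists_tElt (hG : ¬ IsMulCommutative G) (hJ : IsOfJankoFourType G) : ∃ t : G, M.TElt t := by
  obtain ⟨t, hI, hz, hnz⟩ := M.exists_t hG hJ
  have htz : Commute t S.z := hI.commute B
  have comm_of : ∀ {l : G} {a : ℕ × ℕ}, B.Im l a → ieq (imul a tImg) (imul tImg a) = true → Commute t l := by
    intro l a hl e
    have hlz : Commute l S.z := hl.commute B
    have h1 : S.Zm (l * t * l⁻¹) t := by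
      have := (((hl.mul B hI).of_eq B e).zm B (hI.mul B hl)).mul_right l⁻¹
      rwa [mul_inv_cancel_right] at this
    have h2 : l * t * l⁻¹ = t := by
      refine eq_of_pinned h1 hz fun hh => hnz ?_
      refine hh.trans (isConj_iff.2 ⟨l⁻¹, ?_⟩)
      rw [inv_inv, ← mul_assoc, ← mul_assoc, show l⁻¹ * S.z = S.z * l⁻¹ from hlz.inv_left.eq]
      group
    exact (mul_inv_eq_iff_eq_mul.1 h2).symm
  have hcover : ∀ u < 2048, inU u = true → u = 1 ∨ ∃ e ∈ tTimes, e.1 = u := by
    intro u hu hU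
    have h := forallLt_elim times_cover hu
    simp only [hU, Bool.not_true, Bool.false_or, Bool.or_eq_true, List.any_eq_true, Nat.beq_eq] at h
    exact h
  have data : ∀ e ∈ tTimes, nvOK e.2.1 = true ∧ B.vel e.1 = M.nvG e.2.1 ∧ Commute t (B.vel e.1) ∧
      ¬ IsConj S.z (B.vel e.1 * t) := by
    intro e he
    have h := List.all_eq_true.1 t_times e he
    simp only [Bool.and_eq_true] at h
    obtain ⟨⟨⟨⟨⟨hd, hc⟩, hn⟩, hcu⟩, hone⟩, hi⟩ := h
    have hg : B.vel e.1 = M.nvG e.2.1 := by
      obtain ⟨u, ⟨c, g, d⟩, w⟩ := e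
      simp only [nvOK, Bool.and_eq_true, Nat.beq_eq] at hd hcu hone
      rw [nvG, hcu, show pe g = 1 from eq_pe Rep.one hd.1.1.1.1.1.2 hone, map_one, mul_one]
    refine ⟨hd, hg, ?_, ?_⟩
    · refine comm_of (hg ▸ M.img_nv hd) ?_
      have := List.all_eq_true.1 (show tTimes.all (fun e => ieq (imul (nvImg e.2.1) tImg)
        (imul tImg (nvImg e.2.1))) = true by decide +kernel) e he
      exact this
    · obtain ⟨u, hu, hI'⟩ := M.im_conjG hc
      have hzm : S.Zm (B.vel e.1 * t) (u * M.nvG e.2.2.2.2 * u⁻¹) :=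
        (((hg ▸ M.img_nv hd).mul B hI).of_eq B hi).zm B hI'
      have hd' : nvOK e.2.2.2.2 = true := by
        simp only [conjOK, Bool.and_eq_true] at hc; exact hc.2
      simp only [notZOK, Bool.and_eq_true, Bool.not_eq_true'] at hn
      obtain ⟨⟨⟨⟨e0, e2⟩, h1⟩, hz1⟩, hz2⟩ := hn
      obtain ⟨i1, i2⟩ := M.nv_types hG hJ hd' e0 e2 h1
      intro hh
      rcases hzm with r | r <;> rw [r] at hh
      · rw [i1.1 (hh.trans (isConj_iff.2 ⟨u⁻¹, by group⟩))] at hz1
        exact Bool.noConfusion hz1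
      · rw [i2.1 (hh.trans (isConj_iff.2 ⟨u⁻¹, by
          rw [inv_inv, ← mul_assoc u⁻¹, show u⁻¹ * S.z = S.z * u⁻¹ from hu.inv_left.eq]; group⟩))] at hz2
        exact Bool.noConfusion hz2
  refine ⟨t, hI, hz, fun u hu hU => ?_, fun u hu hU => ?_, fun i hi => ?_⟩
  · rcases hcover u hu hU with e | ⟨e, he, rfl⟩
    · rw [e, B.vel_one]; exact htz
    · exact (data e he).2.2.1
  · rcases hcover u hu hU with e | ⟨e, he, rfl⟩
    · rw [e, B.vel_one]; exact hnz
    · exact (data e he).2.2.2
  · have h := forallLt_elim lz_ok hi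
    rcases hd : lzData.getD i (0, 0, 0, 0, 0, 0) with ⟨c, g, d⟩
    rw [hd] at h
    simp only [Bool.and_eq_true] at h
    obtain ⟨⟨⟨⟨hok, hc⟩, hg⟩, -⟩, he⟩ := h
    have e : M.nvG (c, g, d) = M.k (pe (gList.getD i pone)) := by
      have hgl : isAut (gList.getD i pone) = true := by
        have := perms_ok
        simp only [Bool.and_eq_true] at this
        exact forallLt_elim this.1.1.1.1.1.1.1.1.2 (by omega)
      obtain ⟨y, v, p, m⟩ := d
      simp only [nvOK, Bool.and_eq_true] at hok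
      have hgg : isAut g = true := hok.1.1.1.1.1.2
      rw [nvG, Nat.eq_of_beq_eq_true hc, B.vel_zero, one_mul, eq_pe (rep_pe hgl) hgg hg]
    exact comm_of (e ▸ M.img_nv hok) he

/-- The whole trio stabilizer centralizes `t`. -/
theorem TElt.comm (hG : ¬ IsMulCommutative G) (hJ : IsOfJankoFourType G) {t : G} (ht : M.TElt t) :
    ∀ i < 10, Commute t (M.k (pe (gList.getD i pone))) := by
  intro i hi
  rcases (show i < 9 ∨ i = 9 by omega) with h | rfl
  · exact ht.low i h
  set T := M.trioLift hG hJ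
  have hgl : ∀ i < 10, isAut (gList.getD i pone) = true := by
    have := perms_ok
    simp only [Bool.and_eq_true] at this
    exact fun i hi => forallLt_elim this.1.1.1.1.1.1.1.1.2 hi
  have hgσ : ∀ i < 10, ∀ k < 10, gList.getD i pone = gP k → pe (gList.getD i pone) = gσ k := by
    intro i hi k hk e
    refine Subtype.ext (Rep.unique (rep_pe (hgl i hi)) (e ▸ rep_gσ hk))
  have h0 : Commute t (T.g 0) := by
    have := ht.low 0 (by norm_num); rwa [hgσ 0 (by norm_num) 0 (by norm_num) rfl] at this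
  have h1 : Commute t (T.g 1) := by
    have := ht.low 1 (by norm_num); rwa [hgσ 1 (by norm_num) 1 (by norm_num) rfl] at this
  have hr : ∀ j < 6, Commute t (T.g (4 + j)) := by
    intro j hj
    have := ht.low (2 + j) (by omega)
    rwa [hgσ (2 + j) (by omega) (4 + j) (by omega) (by interval_cases j <;> rfl)] at this
  have hrall : ∀ k, Commute t (T.κ (rσ k)) := fun k =>
    rσ_induction (P := fun q => Commute t (T.κ q)) (by rw [map_one]; exact Commute.one_right t)
      (fun j hj q hq => by rw [map_mul]; exact (hr j hj).mul_right hq) k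
  rw [show pe (gList.getD 9 pone) = gσ 2 from hgσ 9 (by norm_num) 2 (by norm_num) rfl]
  set g := T.g 2
  show Commute t g
  have hfix : ∀ {a : ℕ}, a < 2048 → inU a = true → Commute t (B.vel a) := fun ha h => ht.fix _ ha h
  have htC : t ∈ B.trioC := B.mem_trioC.2 ⟨hfix (by norm_num) rfl, hfix (by norm_num) rfl, hfix (by norm_num) rfl⟩
  have hx := T.seven_L hG hJ htC
  obtain ⟨n, hn, k, hk, hxe⟩ := T.L_form hG hJ hx
  set x := t⁻¹ * (g * t * g⁻¹) with hxd
  -- the six involutions and the element of order three centralize it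
  have hconj : ∀ {a : G}, Commute t a → Commute t (g⁻¹ * a * g) → Commute x a := fun {a} h h' => by
    refine h.inv_left.mul_left ?_
    have := h'.map (MulAut.conj g).toMonoidHom
    simpa [mul_assoc] using this
  have hg6 : ∀ j < 6, ∃ k, g⁻¹ * T.g (4 + j) * g = T.κ (rσ k) := by
    intro j hj
    obtain ⟨⟨k, _⟩, hk⟩ := (show ∀ j : Fin 6, ∃ k : Fin 64,
        peq (pmul (gP (4 + j.1)) (gP 2)) (pmul (gP 2) (rP k.1)) = true by decide +kernel) ⟨j, hj⟩
    refine ⟨k, ?_⟩
    have e : gσ (4 + j) * gσ 2 = gσ 2 * rσ k := Subtype.ext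
      ((peq_iff ((rep_gσ (show 4 + j < 10 by omega)).mul (rep_gσ (show 2 < 10 by norm_num)))
        ((rep_gσ (show 2 < 10 by norm_num)).mul (rep_rσ k))).1 hk)
    rw [mul_assoc, ← map_mul, e, map_mul, inv_mul_cancel_left]
  have hx6 : ∀ j < 6, Commute x (T.g (4 + j)) := fun j hj => by
    obtain ⟨k, hk⟩ := hg6 j hj
    exact hconj (hr j hj) (hk ▸ hrall k)
  have htrio := trio_ok
  simp only [Bool.and_eq_true, Nat.beq_eq] at htrio
  obtain ⟨⟨⟨e1, e10⟩, e20⟩, hg01⟩ := htrio
  have hx01 : ∀ i < 2, Commute x (T.g i) := by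
    intro i hi
    have e : gσ 2 * gσ i = gσ i * gσ 2 := Subtype.ext
      ((peq_iff ((rep_gσ (show 2 < 10 by norm_num)).mul (rep_gσ (show i < 10 by omega)))
        ((rep_gσ (show i < 10 by omega)).mul (rep_gσ (show 2 < 10 by norm_num)))).1 (forallLt_elim hg01 hi))
    have hti : Commute t (T.g i) := by interval_cases i <;> assumption
    refine hconj hti ?_
    rwa [mul_assoc, ← map_mul, ← e, map_mul, inv_mul_cancel_left]
  have hds := CfsgLib.JankoFourTrio.ds_lt hn
  have hW : B.vel (CfsgLib.JankoFourTrio.ds n) ∈ B.trioW := by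
    refine B.inW_mem hds ?_
    have hmask := forallLt_elim CfsgLib.JankoFourTrio.mask_ok hn
    rw [Bool.and_eq_true] at hmask
    have hf := forallLt_elim CfsgLib.JankoFourTrio.fixed_mask hds
    simp only [hmask.1, Bool.not_true, Bool.false_or, Bool.or_eq_true, Bool.not_eq_true'] at hf
    refine hf.resolve_right fun e => ?_
    have : CfsgLib.Sporadic.forallLt 6 (fun j => Nat.beq (CfsgLib.JankoFourTrio.tA (4 + j)
        (CfsgLib.JankoFourTrio.ds n)) (CfsgLib.JankoFourTrio.ds n)) = true := by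
      rw [CfsgLib.Sporadic.forallLt_iff]
      intro j hj
      rw [Nat.beq_eq]
      have hv : Commute (B.vel (CfsgLib.JankoFourTrio.ds n)) (T.g (4 + j)) := by
        have hk' : Commute (T.κ (rσ k)) (T.g (4 + j)) :=
          (CfsgLib.JankoFourTrio.rσ_comm k hj).map T.κ
        have := ((hx6 j hj)).mul_left hk'.inv_left
        rwa [hxe, mul_inv_cancel_right] at this
      have hc := T.conj_gσ (k := 4 + j) (by omega) hds
      rw [← hv.eq, mul_inv_cancel_right] at hc
      exact (B.vel_inj hds (CfsgLib.JankoFourTrio.TrioLift.tA_lt (by omega) hds) hc).symm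
    rw [this] at e
    exact Bool.noConfusion e
  have hk0 : k = 0 := by
    have hf := forallLt_elim (forallLt_elim CfsgLib.JankoFourTrio.fixer_cent hk) (show 0 < 6 by norm_num)
    simp only [Bool.or_eq_true, Bool.and_eq_true, Nat.beq_eq, Bool.not_eq_true'] at hf
    refine (hf.resolve_right fun hne => ?_).1
    have hcomm : ∀ i < 2, rσ k * gσ i = gσ i * rσ k := by
      intro i hi
      have hwi : Commute (B.vel (CfsgLib.JankoFourTrio.ds n)) (T.g i) :=
        (Subgroup.mem_centralizer_iff.1 (T.g_mem_C (show i < 10 by omega) (by omega) (by omega)) _ hW)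
      have hki : Commute (T.κ (rσ k)) (T.g i) := by
        have := hwi.inv_left.mul_left (hx01 i hi)
        rwa [hxe, inv_mul_cancel_left] at this
      have h2 : T.κ (rσ k * gσ i * (gσ i * rσ k)⁻¹) = 1 := by
        rw [map_mul, map_inv, map_mul, map_mul, ← hki.eq, mul_inv_cancel]
      exact mul_inv_eq_one.1 (T.eq_one_of_mem_V (h2 ▸ one_mem _))
    have hr0 : Rep ((rσ k * CfsgLib.JankoFourTrio.hσ 0 : ↥M24) : Equiv.Perm GolayPt) (pmul (rP k) (CfsgLib.JankoFourTrio.hP 0)) :=
      (rep_rσ k).mul (CfsgLib.JankoFourTrio.rep_hσ 0)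
    have hh0 : CfsgLib.JankoFourTrio.hσ 0 = 1 := by simp [CfsgLib.JankoFourTrio.hσ]
    rw [hh0, mul_one] at hr0
    have q : ∀ i < 2, peq (pmul (pmul (rP k) (CfsgLib.JankoFourTrio.hP 0)) (gP i))
        (pmul (gP i) (pmul (rP k) (CfsgLib.JankoFourTrio.hP 0))) = true := fun i hi =>
      (peq_iff (hr0.mul (rep_gσ (show i < 10 by omega))) ((rep_gσ (show i < 10 by omega)).mul hr0)).2
        (congrArg Subtype.val (hcomm i hi))
    rw [q 0 (by norm_num), q 1 (by norm_num)] at hne
    exact Bool.noConfusion hne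
  subst hk0
  rw [show rσ 0 = 1 from rfl, map_one, mul_one] at hxe
  have hgt : g * t * g⁻¹ = B.vel (CfsgLib.JankoFourTrio.ds n) * t := by
    have htw : Commute t (B.vel (CfsgLib.JankoFourTrio.ds n)) :=
      (Subgroup.mem_centralizer_iff.1 htC _ hW).symm
    rw [← htw.eq, ← hxe, hxd, mul_inv_cancel_left]
  have hw : CfsgLib.JankoFourTrio.ds n = 0 := by
    obtain ⟨i, hi⟩ := hW
    have hi' : CfsgLib.JankoFourTrio.wCode i.1 = CfsgLib.JankoFourTrio.ds n := B.vel_inj (wCode_lt i) hds hi
    rcases eq_or_ne i 0 with rfl | hne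
    · exact hi'.symm
    refine absurd (ht.isZ.trans (isConj_iff.2 ⟨g, hgt⟩)) (ht.notZ _ hds ?_)
    rw [← hi']
    fin_cases i <;> first | exact absurd rfl hne | decide +kernel
  rw [hw, B.vel_zero, one_mul] at hgt
  exact (mul_inv_eq_iff_eq_mul.1 hgt).symm

end NVModel

end HexBase

end CfsgLib.JankoFour
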