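import Cfsg.Agent.Lib.JankoFourPresent.Trio

/-!
# Words in `x`, `y` and the conjugates of `t`, read in the charts (owner: helper25)
-/

set_option autoImplicit false
set_option linter.unusedSectionVars false
set_option maxRecDepth 100000

namespace CfsgLib.JankoFour

open Cfsg CfsgLib.JankoFourHexad CfsgLib.JankoFourOrder CfsgLib.JankoFourOrder.Central
open CfsgLib.JankoFourPresent
open CfsgLib.Sporadic (Rep isAut pone pmul forallLt_elim)
open CfsgLib.ThreeTrans.M24Inv (peq peq_iff)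
open Setting (Zm)

variable {G : Type*} [Group G] [Finite G]

namespace HexBase

variable {S : Setting G} {B : HexBase S}

namespace NVModel

variable (M : B.NVModel)

/-- The conjugate of `t` by a permutation. -/
def tc (t : G) (σ : ↥M24) : G := M.k σ * t * (M.k σ)⁻¹

/-- The element of a letter. -/
noncomputable def rawG (t : G) : List Raw → G
  | [] => 1
  | .v c h :: A => B.vel c * M.k (pe h) * rawG t A
  | .T σ :: A => M.tc t (pe σ) * rawG t A

theorem gList_aut : ∀ i < 10, isAut (gList.getD i pone) = true := by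
  have := perms_ok
  simp only [Bool.and_eq_true] at this
  exact fun i hi => forallLt_elim this.1.1.1.1.1.1.1.1.2 hi

variable [IsSimpleGroup G] (hG : ¬ IsMulCommutative G) (hJ : IsOfJankoFourType G) {t : G} (ht : M.TElt t)

include hG hJ ht

/-- The permutation of a word in the generators centralizes `t`. -/
theorem exists_word_comm : ∀ {w : List ℕ}, (∀ i ∈ w, i < 10) →
    ∃ σ : ↥M24, Rep σ.1 (lPerm w) ∧ Commute t (M.k σ)
  | [], _ => ⟨1, Rep.one, by rw [map_one]; exact Commute.one_right t⟩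
  | i :: w, h => by
    obtain ⟨σ, hσ, hc⟩ := exists_word_comm (w := w) fun x hx => h x (by simp [hx])
    have hi := h i (by simp)
    refine ⟨pe (gList.getD i pone) * σ, (rep_pe (gList_aut i hi)).mul hσ, ?_⟩
    rw [map_mul]
    exact (TElt.comm M hG hJ ht i hi).mul_right hc

theorem pe_word_comm {l : ℕ} {w : List ℕ} (hl : isAut l = true) (hw : w.all (fun i => Nat.blt i 10) = true)
    (e : peq l (lPerm w) = true) : Commute t (M.k (pe l)) := by
  obtain ⟨σ, hσ, hc⟩ := M.exists_word_comm hG hJ ht (w := w) (by simpa [List.all_eq_true] using hw)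
  rwa [eq_pe hσ hl e]

theorem tc_comm {l : ↥M24} (hl : Commute t (M.k l)) (σ : ↥M24) : M.tc t (σ * l) = M.tc t σ := by
  show M.k (σ * l) * t * (M.k (σ * l))⁻¹ = M.k σ * t * (M.k σ)⁻¹
  rw [map_mul, show M.k σ * M.k l * t * (M.k σ * M.k l)⁻¹ = M.k σ * (M.k l * t * (M.k l)⁻¹) * (M.k σ)⁻¹ by group,
    ← hl.eq, mul_inv_cancel_right]

/-- A letter read in a chart. -/
theorem img_letter {r ri : ℕ} (hr : isAut r = true) (hri : isAut ri = true) (hrr : peq (pmul r ri) pone = true)
    {a : Raw} {d : Dat} (h : letOK r ri a d = true) :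
    B.Im (M.k (pe r) * M.rawG t [a] * (M.k (pe r))⁻¹) (datImg d) := by
  have hinv : pe r * pe ri = 1 := eq_one_of_peq ((rep_pe hr).mul (rep_pe hri)) hrr
  cases a with
  | v c g =>
    cases d with
    | tw => simp [letOK] at h
    | nv d =>
      obtain ⟨c', g', d⟩ := d
      simp only [letOK, Bool.and_eq_true, Nat.blt_eq, Nat.beq_eq] at h
      obtain ⟨⟨⟨⟨hd, hg⟩, hc⟩, hcc⟩, hgg⟩ := h
      have hg' : isAut g' = true := by
        obtain ⟨y, v, p, m⟩ := d
        simp only [nvOK, Bool.and_eq_true] at hd; exact hd.1.1.1.1.1.2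
      have hσ : pe g' = pe r * pe g * pe ri :=
        eq_pe (((rep_pe hr).mul (rep_pe hg)).mul (rep_pe hri)) hg' hgg
      have e : M.k (pe r) * M.rawG t [.v c g] * (M.k (pe r))⁻¹ = M.nvG (c', g', d) := by
        show M.k (pe r) * (B.vel c * M.k (pe g) * 1) * (M.k (pe r))⁻¹ = B.vel c' * M.k (pe g')
        rw [← hcc, ← M.act_vel (rep_pe hr) hc, hσ, map_mul, map_mul, eq_inv_of_mul_eq_one_right hinv, map_inv]
        group
      exact e ▸ M.img_nv hd
  | T σ =>
    cases d with
    | nv => simp [letOK] at h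
    | tw l w da db =>
      obtain ⟨ca, ha, da⟩ := da
      obtain ⟨cb, hb, db⟩ := db
      simp only [letOK, Bool.and_eq_true, Nat.beq_eq] at h
      obtain ⟨⟨⟨⟨⟨⟨⟨⟨⟨hda, hdb⟩, hσ⟩, hl⟩, hca⟩, hcb⟩, hw⟩, hlw⟩, he⟩, hab⟩ := h
      have haa : isAut ha = true := by
        obtain ⟨y, v, p, m⟩ := da
        simp only [nvOK, Bool.and_eq_true] at hda; exact hda.1.1.1.1.1.2
      have hbb : isAut hb = true := by
        obtain ⟨y, v, p, m⟩ := db
        simp only [nvOK, Bool.and_eq_true] at hdb; exact hdb.1.1.1.1.1.2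
      have e1 : pe r * pe σ = pe ha * pe l := Subtype.ext
        ((peq_iff ((rep_pe hr).mul (rep_pe hσ)) ((rep_pe haa).mul (rep_pe hl))).1 he)
      have e2 : pe ha * pe hb = 1 := eq_one_of_peq ((rep_pe haa).mul (rep_pe hbb)) hab
      have e : M.k (pe r) * M.rawG t [.T σ] * (M.k (pe r))⁻¹ = M.nvG (ca, ha, da) * t * M.nvG (cb, hb, db) := by
        show M.k (pe r) * (M.tc t (pe σ) * 1) * (M.k (pe r))⁻¹ =
          B.vel ca * M.k (pe ha) * t * (B.vel cb * M.k (pe hb))
        rw [hca, hcb, B.vel_zero, one_mul, one_mul, eq_inv_of_mul_eq_one_right e2, map_inv,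
          ← show M.tc t (pe ha) = M.k (pe ha) * t * (M.k (pe ha))⁻¹ from rfl,
          ← M.tc_comm hG hJ ht (M.pe_word_comm hG hJ ht hl hw hlw) (pe ha), ← e1, tc, tc, map_mul]
        group
      exact e ▸ ((M.img_nv hda).mul B ht.img).mul B (M.img_nv hdb)

/-- A word read in a chart. -/
theorem img_word {r ri : ℕ} (hr : isAut r = true) (hri : isAut ri = true) (hrr : peq (pmul r ri) pone = true) :
    ∀ {A : List Raw} {D : List Dat}, wordOK r ri A D = true →
      B.Im (M.k (pe r) * M.rawG t A * (M.k (pe r))⁻¹) (wordImg D)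
  | [], [], _ => by
    rw [show M.rawG t [] = 1 from rfl, mul_one, mul_inv_cancel]
    exact B.img_one
  | [], _ :: _, h => by simp [wordOK] at h
  | _ :: _, [], h => by simp [wordOK] at h
  | a :: A, d :: D, h => by
    simp only [wordOK, Bool.and_eq_true] at h
    have e : M.rawG t (a :: A) = M.rawG t [a] * M.rawG t A := by
      cases a <;> simp [rawG]
    rw [e, show M.k (pe r) * (M.rawG t [a] * M.rawG t A) * (M.k (pe r))⁻¹ =
      M.k (pe r) * M.rawG t [a] * (M.k (pe r))⁻¹ * (M.k (pe r) * M.rawG t A * (M.k (pe r))⁻¹) by group]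
    exact (M.img_letter hG hJ ht hr hri hrr h.1).mul B (img_word hr hri hrr h.2)

omit hG hJ ht in
theorem rawG_append (t : G) : ∀ A A' : List Raw, M.rawG t (A ++ A') = M.rawG t A * M.rawG t A'
  | [], A' => by simp [rawG]
  | a :: A, A' => by
    cases a <;> simp [rawG, rawG_append t A A', mul_assoc]

omit hG hJ in
/-- A conjugate of `t` is in the class of `z`. -/
theorem isZ_tc (σ : ↥M24) : IsConj S.z (M.tc t σ) := ht.isZ.trans (isConj_iff.2 ⟨M.k σ, rfl⟩)

omit hG hJ in
/-- The members of its trio centralize a conjugate of `t` and do not keep it in the class. -/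
theorem tc_member {σ σi : ℕ} (hσ : pairOK (σ, σi) = true) {c : ℕ} (hc : c < 2048)
    (hU : inU (pImg σi c) = true) :
    Commute (M.tc t (pe σ)) (B.vel c) ∧ ¬ IsConj S.z (B.vel c * M.tc t (pe σ)) := by
  simp only [pairOK, Bool.and_eq_true] at hσ
  obtain ⟨⟨h1, h2⟩, h3⟩ := hσ
  have hinv : pe σ * pe σi = 1 := eq_one_of_peq ((rep_pe h1).mul (rep_pe h2)) h3
  have hu : pImg σi c < 2048 := (M.hact (pe σi) σi (rep_pe h2) c hc).1
  have hc' : B.vel c = M.k (pe σ) * B.vel (pImg σi c) * (M.k (pe σ))⁻¹ := by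
    rw [← M.act_vel (rep_pe h2) hc, eq_inv_of_mul_eq_one_right hinv, map_inv]
    group
  constructor
  · rw [hc', tc]
    exact (ht.fix _ hu hU).map (MulAut.conj (M.k (pe σ))).toMonoidHom
  · intro hh
    refine ht.notZ _ hu hU (hh.trans (isConj_iff.2 ⟨(M.k (pe σ))⁻¹, ?_⟩))
    rw [hc', tc]
    group

omit hG hJ ht in
/-- Elements agreeing in a chart at `c` agree up to `vel c`. -/
theorem eq_or_of_chart {r : ℕ × ℕ} {c : ℕ} (hr : chartOK r c = true) {X Y : G}
    (h : S.Zm (M.k (pe r.1) * X * (M.k (pe r.1))⁻¹) (M.k (pe r.1) * Y * (M.k (pe r.1))⁻¹)) :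
    X = Y ∨ X = B.vel c * Y := by
  simp only [chartOK, Bool.and_eq_true, Nat.blt_eq, Nat.beq_eq] at hr
  obtain ⟨⟨⟨⟨h1, -⟩, hc⟩, hcz⟩, -⟩ := hr
  rcases h with e | e
  · exact Or.inl (mul_left_cancel (mul_right_cancel e))
  · refine Or.inr ?_
    have hv : M.k (pe r.1) * B.vel c * (M.k (pe r.1))⁻¹ = S.z := by
      rw [M.act_vel (rep_pe h1) hc, hcz, B.vel_one]
    rw [← hv, show M.k (pe r.1) * B.vel c * (M.k (pe r.1))⁻¹ * (M.k (pe r.1) * Y * (M.k (pe r.1))⁻¹) =
      M.k (pe r.1) * (B.vel c * Y) * (M.k (pe r.1))⁻¹ by group] at e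
    exact mul_left_cancel (mul_right_cancel e)

/-- Two words with the same image in a chart agree up to the centre of the chart. -/
theorem word_agree {r : ℕ × ℕ} {c : ℕ} (hr : chartOK r c = true) {A A' : List Raw} {D D' : List Dat}
    (h : wordOK r.1 r.2 A D = true) (h' : wordOK r.1 r.2 A' D' = true) (e : ieq (wordImg D) (wordImg D') = true) :
    M.rawG t A = M.rawG t A' ∨ M.rawG t A = B.vel c * M.rawG t A' := by
  have hr' := hr
  simp only [chartOK, Bool.and_eq_true] at hr'
  obtain ⟨⟨⟨⟨h1, h2⟩, -⟩, -⟩, h3⟩ := hr'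
  exact M.eq_or_of_chart hr
    (((M.img_word hG hJ ht h1 h2 h3 h).of_eq B e).zm B (M.img_word hG hJ ht h1 h2 h3 h'))

end NVModel

end HexBase

end CfsgLib.JankoFour
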